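/-
Project LOW4: vocabulary and statements of the steps for groups with transvections (part C), without transvections in
odd characteristic (part A) and in characteristic two (part B), and for the maximal subgroups.
-/
import Cfsg.Agent.Low4.Emb
import Cfsg.Agent.Low.T3B1
import Cfsg.Agent.Cls.GenPair

set_option autoImplicit false
set_option linter.unusedSectionVars false

namespace CL.Low4

open Matrix Cfsg Cfsg.Geo CL.Asch CL.SLn CL.Low Module
open scoped commutatorElement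

universe u

export CL.Low.T3B (Rt)

section Transvections

variable {ι : Type} [Fintype ι] [DecidableEq ι] {F : Type u} [Field F] {k : ℕ} {P : Subgroup (GL ι F)}
  {v : ι → F} {φ : Dual F (ι → F)} {e : Fin k → ι → F} {x : Fin k → Dual F (ι → F)}

/-- The group generated by the transvections of `P` on the span of `e`, as a subgroup of `GL_k`. -/
def TK (P : Subgroup (GL ι F)) (e : Fin k → ι → F) (x : Fin k → Dual F (ι → F)) : Subgroup (GL (Fin k) F) :=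
  Subgroup.closure {A | ∃ a η, Tv P (up e a) (η ∘ₗ co x) ∧ ∀ z, A • z = z + η z • a}

theorem emb_mem_of_TK (hb : Bi e x) {A : GL (Fin k) F} (h : A ∈ TK P e x) : emb hb A ∈ P :=
  (Subgroup.closure_le (P.comap (emb hb))).2 (fun A hA => by
    obtain ⟨_, _, ⟨_, g, hg, eg⟩, eA⟩ := hA
    rwa [SetLike.mem_coe, Subgroup.mem_comap,
      show emb hb A = g from gext fun y => ((emb_rank_one hb).1 eA y).trans (eg y).symm]) h

theorem tv_TK (hb : Bi e x) {a : Fin k → F} {η : Dual F (Fin k → F)} :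
    Tv (TK P e x) a η ↔ Tv P (up e a) (η ∘ₗ co x) :=
  ⟨fun ⟨h0, _, hA, eA⟩ => ⟨by simp [hb.co_up, h0], _, emb_mem_of_TK hb hA, (emb_rank_one hb).1 eA⟩, fun h =>
    have h0 : η a = 0 := by simpa [hb.co_up] using h.1
    ⟨h0, tv a η h0, Subgroup.subset_closure ⟨a, η, h, tv_smul a η h0⟩, tv_smul a η h0⟩⟩

theorem tv_TK_of_in (hb : Bi e x) (h : Tv P v φ) (hi : In e x v φ) : Tv (TK P e x) (co x v) (φ ∘ₗ up e) := by
  rwa [tv_TK hb, hi.up_co, hi.comp_co]

theorem rt_TK_of_in (hb : Bi e x) (h : Rt P v φ) (hi : In e x v φ) : Rt (TK P e x) (co x v) (φ ∘ₗ up e) :=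
  ⟨tv_TK_of_in hb h.tv hi, fun h0 => h.ne (by rw [← hi.up_co, h0, map_zero]),
    fun h0 => h.ne' (by rw [← hi.comp_co, h0, LinearMap.zero_comp])⟩

theorem tvGen_TK (hb : Bi e x) : TvGen (TK P e x) := (Subgroup.closure_le _).2 fun A hA => by
  have hm : A ∈ TK P e x := Subgroup.subset_closure hA
  obtain ⟨a, η, h, eA⟩ := hA
  by_cases h0 : a = 0 ∨ η = 0
  · rw [show A = 1 from gext fun z => by rcases h0 with rfl | rfl <;> simp [eA]]
    exact Subgroup.one_mem _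
  · exact Subgroup.subset_closure ⟨hm, a, η, (not_or.1 h0).1, (not_or.1 h0).2, ((tv_TK hb).2 h).1, eA⟩

/-- All root groups have order two. -/
def Sm (P : Subgroup (GL ι F)) : Prop := ∀ v φ (t : F), Rt P v φ → Tv P (t • v) φ → t = 0 ∨ t = 1

/-- On the span of `e` the transvections of `P` are those of `SL₃(K)`. -/
structure LCfg0 (P : Subgroup (GL ι F)) (K : Subfield F) (e : Fin 3 → ι → F) (x : Fin 3 → Dual F (ι → F)) : Prop where
  bi : Bi e x
  tv : ∀ a η : Fin 3 → F, (∀ i, a i ∈ K) → (∀ i, η i ∈ K) → ∑ i, η i * a i = 0 → Tv P (∑ i, a i • e i) (∑ i, η i • x i)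
  ex : ∀ v φ, Tv P v φ → In e x v φ → ∀ i j, φ (e i) * x j v ∈ K

/-- Moreover all transvections of `P` are rational relative to the frame. -/
structure LCfg (P : Subgroup (GL ι F)) (K : Subfield F) (e : Fin 3 → ι → F) (x : Fin 3 → Dual F (ι → F)) : Prop
    extends LCfg0 P K e x where
  rat : ∀ v φ, Tv P v φ → ∀ i j, φ (e i) * x j v ∈ K

/-- The linear outcome. -/
def LData (P : Subgroup (GL ι F)) : Prop :=
  ∃ K : Subfield F, (∀ l ∈ P, tr l ∈ K) ∧ (K = ⊤ → specialLinear ι F ≤ P)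

/-- All root groups are the subfield `K`, and the invariants of pairs lie in `K`. -/
structure USys (P : Subgroup (GL ι F)) (K : Subfield F) : Prop where
  grp : ∀ v φ, Rt P v φ → ∀ t : F, Tv P (t • v) φ ↔ t ∈ K
  inv : ∀ v φ w ψ, Rt P v φ → Rt P w ψ → φ w * ψ v ∈ K
  big : ∃ t ∈ K, t ≠ 0 ∧ t ≠ 1

/-- The unitary outcome. -/
def UData (P : Subgroup (GL ι F)) : Prop :=
  ∃ σ : F →+* F, (∀ l ∈ P, σ (σ (tr l)) = tr l ∧ tr l⁻¹ = σ (tr l)) ∧
    ((∀ a, σ (σ a) = a) → σ ≠ RingHom.id F → ∀ f : (ι → F) → (ι → F) → F, IsSesq σ 1 f → (∀ l ∈ P, Isom f l) →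
      specialIsom f ≤ P)

/-- `P` times the scalars. -/
abbrev Gam (P : Subgroup (GL ι F)) : Subgroup (GL ι F) := P ⊔ scalars ι F

/-- The group generated by the reflections of `P`. -/
def RG (P : Subgroup (GL ι F)) : Subgroup (GL ι F) :=
  Subgroup.closure {g | ∃ v φ, Rf P v φ ∧ ∀ y, g • y = y - φ y • v}

theorem RG_le : RG P ≤ P := (Subgroup.closure_le _).2 fun g ⟨_, _, h, e⟩ => by
  obtain ⟨r, hr, e'⟩ := h.mem
  rwa [SetLike.mem_coe, show g = r from gext fun y => (e y).trans (e' y).symm]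

theorem rf_RG : Rf (RG P) v φ ↔ Rf P v φ :=
  ⟨fun h => let ⟨r, hr, e⟩ := h.mem; ⟨h.two, h.ne, h.ne', r, RG_le hr, e⟩,
    fun h => let ⟨r, _, e⟩ := h.mem; ⟨h.two, h.ne, h.ne', r, Subgroup.subset_closure ⟨v, φ, h, e⟩, e⟩⟩

/-- No scalars but the identity. -/
def ZT (P : Subgroup (GL ι F)) : Prop := P ⊓ scalars ι F = ⊥

/-- `P` modulo scalars, when there are none. -/
noncomputable def ZT.equiv (h : ZT P) : P ≃* PQ P :=
  MulEquiv.ofBijective (QuotientGroup.mk' _) ⟨(injective_iff_map_eq_one _).2 fun z hz =>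
    Subtype.ext (Subgroup.mem_bot.1 (h ▸ ⟨z.2, mk_eq_one_iff.1 hz⟩)), QuotientGroup.mk'_surjective _⟩

theorem tr_conj' (h l : GL ι F) : tr (h * l * h⁻¹) = tr l := by
  simp only [tr, Units.val_mul]
  exact Matrix.trace_units_conj h _

theorem tr_of_pow (p : ℕ) [Fact p.Prime] [CharP F p] {l : GL ι F} {n : ℕ} (h : l ^ p ^ n = 1) :
    tr l = Fintype.card ι := by
  rcases isEmpty_or_nonempty ι with hι | hι
  · simp [tr, Matrix.trace]
  have h1 : ((l : Matrix ι ι F) - 1) ^ p ^ n = 0 := by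
    rw [sub_pow_char_pow_of_commute _ _ (Commute.one_right _), one_pow, ← Units.val_pow_eq_pow_val, h, Units.val_one,
      sub_self]
  have h2 := (Matrix.isNilpotent_trace_of_isNilpotent ⟨_, h1⟩).eq_zero
  rwa [trace_sub, trace_one, sub_eq_zero] at h2

/-- If every element is unipotent or real, the traces are real. -/
theorem real_of (p : ℕ) [Fact p.Prime] [CharP F p] (hZ : ZT P)
    (h : ∀ g : PQ P, (∃ n, g ^ p ^ n = 1) ∨ IsConj g g⁻¹) : Real P := fun l hl => by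
  rcases h (hZ.equiv ⟨l, hl⟩) with ⟨n, hn⟩ | hc
  · rw [← map_pow, MulEquiv.map_eq_one_iff] at hn
    have h1 : l ^ p ^ n = 1 := congrArg Subtype.val hn
    rw [tr_of_pow p h1, tr_of_pow p (n := n) (by rw [inv_pow, h1, inv_one])]
  · obtain ⟨c, hc⟩ := isConj_iff.1 hc
    obtain ⟨c, rfl⟩ := hZ.equiv.surjective c
    rw [← map_inv, ← map_inv, ← map_mul, ← map_mul] at hc
    rw [← tr_conj' c l]
    exact congrArg tr (congrArg Subtype.val (hZ.equiv.injective hc)).symm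

end Transvections

/-! ### General steps -/

def SubSym : Prop :=
  ∀ (F : Type u) [Field F] [Fintype F] (Γ : Subgroup (G F)), Ctx Γ →
    (∀ u φ v ψ w χ, Rf Γ u φ → Rf Γ v ψ → Rf Γ w χ → ¬ Asym u φ v ψ w χ) → Real Γ

def SubCtx : Prop :=
  ∀ (F : Type u) [Field F] [Fintype F] (P : Subgroup (G F)), QS P →
    ((2 : F) ≠ 0 → ¬ HasTv (Gam P) → (∃ v φ, Rf (Gam P) v φ) → Od (RG (Gam P)) ∧ P ≤ RG (Gam P)) ∧
    ((2 : F) = 0 → HasTv P → ¬ LinPair P → Sm P → Ev P)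

/-! ### Part C: transvections -/

def SubL3 : Prop :=
  ∀ (F : Type u) [Field F] [Fintype F] (K : Subgroup (GL (Fin 3) F)), Irr K → TvGen K → LinPair K →
    IsSLSub K ∨ ((2 : F) = 0 ∧ DihSyl K 4 ∧ QS K ∧ Nonempty (PQ K ≃* alternatingGroup (Fin 6)))

def SubTL : Prop :=
  ∀ (F : Type u) [Field F] [Fintype F] (P : Subgroup (G F)) (v w y : V F) (φ ψ χ : Dual F (V F)),
    Rt P v φ → Rt P w ψ → Rt P y χ → φ w ≠ 0 → ψ v = 0 → ψ y ≠ 0 → χ v ≠ 0 →
    (∃ K e x, LCfg0 P K e x ∧ In e x v φ ∧ In e x w ψ ∧ In e x y χ ∧ (∀ t ∈ K, Tv P (t • v) φ) ∧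
      ∀ t ∈ K, Tv P (t • w) ψ) ∨
    ((2 : F) = 0 ∧ (∀ t : F, Tv P (t • v) φ → t = 0 ∨ t = 1) ∧ (∀ t : F, Tv P (t • w) ψ → t = 0 ∨ t = 1) ∧
      ∃ (e : Fin 3 → V F) (x : Fin 3 → Dual F (V F)), Bi e x ∧ LinPair (TK P e x) ∧ QS (TK P e x) ∧
        Nonempty (PQ (TK P e x) ≃* alternatingGroup (Fin 6)))

def SubX6 : Prop :=
  ∀ (F : Type u) [Field F] [Fintype F] (P : Subgroup (G F)), (2 : F) = 0 → Irr P → TvGen P → Sm P →
    ∀ (e : Fin 3 → V F) (x : Fin 3 → Dual F (V F)), Bi e x → LinPair (TK P e x) → QS (TK P e x) →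
      ¬ Nonempty (PQ (TK P e x) ≃* alternatingGroup (Fin 6))

def SubLA : Prop :=
  ∀ (F : Type u) [Field F] [Fintype F] (P : Subgroup (G F)), Irr P → TvGen P → LinPair P → ∃ K e x, LCfg P K e x

def SubLB : Prop :=
  ∀ (F : Type u) [Field F] [Fintype F] (P : Subgroup (G F)), QS P → ∀ K e x, LCfg P K e x → LData P

def SubNP : Prop :=
  ∀ (F : Type u) [Field F] [Fintype F] (P : Subgroup (G F)), QS P → ¬ LinPair P → ¬ Real P →
    ∀ v φ w ψ, Rt P v φ → Rt P w ψ → φ w ≠ 0 → ∃ y χ, Rt P y χ ∧ φ w * ψ y * χ v + φ y * χ w * ψ v ≠ 0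

def SubU1 : Prop :=
  ∀ (F : Type u) [Field F] [Fintype F] (P : Subgroup (G F)), QS P → HasTv P → ¬ LinPair P → ¬ Real P →
    ¬ ((2 : F) = 0 ∧ Sm P) → ∃ K, USys P K

def SubU2 : Prop :=
  ∀ (F : Type u) [Field F] [Fintype F] (P : Subgroup (G F)), QS P → HasTv P → ¬ LinPair P → ∀ K, USys P K →
    ∀ σ : F →+* F, (∀ a, a ∈ K ↔ σ a = a) → ∀ l ∈ P, σ (σ (tr l)) = tr l ∧ tr l⁻¹ = σ (tr l)

def SubU3 : Prop :=
  ∀ (F : Type u) [Field F] [Fintype F] (P : Subgroup (G F)), QS P → HasTv P → ¬ LinPair P → ¬ Real P →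
    ∀ K, USys P K → ∀ σ : F →+* F, (∀ a, a ∈ K ↔ σ a = a) → σ ≠ RingHom.id F →
      ∀ f : V F → V F → F, IsSesq σ 1 f → (∀ l ∈ P, Isom f l) → specialIsom f ≤ P

def SubU4 : Prop :=
  ∀ (F : Type u) [Field F] [Fintype F] (P : Subgroup (G F)), Ev P → ∀ σ : F →+* F, (∀ a, σ a = a ^ 2) →
    ∀ f : V F → V F → F, IsSesq σ 1 f → (∀ l ∈ P, Isom f l) →
      ∀ (ω : F) (e : Fin 3 → V F) (x : Fin 3 → Dual F (V F)), TCfg P ω e x → specialIsom f ≤ P

end CL.Low4
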