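/-
Project LOW4, step A7: the traces of a covering group of `A₇` in dimension four.
-/
import Cfsg.Agent.Low4.Defs3
import Cfsg.Agent.Low.DataA
import Cfsg.Agent.Low5.TrPow
import Cfsg.Agent.Known.AltCover

set_option autoImplicit false
set_option linter.unusedSectionVars false

namespace CL.Low4

open Matrix Cfsg Cfsg.Geo CL.Asch CL.SLn CL.Low Module
open scoped commutatorElement MatrixGroups

universe u

namespace A7x

/-- the facts on an element of `A₇` that are used -/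
def Dat {S : Type*} [Group S] (x : S) : Prop :=
  (∃ y, (x ^ 3 = 1 ∨ x ^ 5 = 1 ∨ x ^ 7 = 1) ∧ y * x * y⁻¹ = x ^ 2) ∨
    ((∃ a y, a * a = 1 ∧ x = a * (y * a * y⁻¹)) ∧ (x ^ 2 = 1 ∨
      (x ^ 4 = 1 ∧ x * x ≠ 1 ∧ ∃ h, h ^ 3 = 1 ∧ x * x * h * (x * x)⁻¹ = h ∧ h * x ≠ x * h) ∨
      (x ^ 6 = 1 ∧ ∃ y y', y * x ^ 3 * y⁻¹ * x * (y * x ^ 3 * y⁻¹)⁻¹ = x ∧
        y' * x ^ 3 * y'⁻¹ = x ^ 3 * (y * x ^ 3 * y⁻¹))))

theorem Dat.map {S : Type*} [Group S] (σ : S ≃* S) {x : S} (h : Dat x) : Dat (σ x) := by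
  rcases h with ⟨y, h1, h2⟩ | ⟨⟨a, y, h1, h2⟩, h⟩
  · exact .inl ⟨σ y, by simpa only [← map_pow, σ.map_eq_one_iff] using h1, by simpa using congrArg σ h2⟩
  refine .inr ⟨⟨σ a, σ y, by simpa using congrArg σ h1, by simpa using congrArg σ h2⟩, ?_⟩
  rcases h with h | ⟨h3, h4, h, h5, h6, h7⟩ | ⟨h3, y, y', h4, h5⟩
  · exact .inl (by simpa using congrArg σ h)
  · exact .inr (.inl ⟨by simpa using congrArg σ h3, fun e => h4 (σ.injective (by simpa using e)), σ h,
      by simpa using congrArg σ h5, by simpa only [map_mul, map_inv] using congrArg σ h6,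
      fun e => h7 (σ.injective (by simpa using e))⟩)
  · exact .inr (.inr ⟨by simpa using congrArg σ h3, σ y, σ y',
      by simpa only [map_mul, map_inv, map_pow] using congrArg σ h4,
      by simpa only [map_mul, map_inv, map_pow] using congrArg σ h5⟩)

open Equiv Equiv.Perm

def al (σ : Perm (Fin 7)) (h : sign σ = 1 := by decide +kernel) : alternatingGroup (Fin 7) :=
  ⟨σ, mem_alternatingGroup.2 h⟩

theorem types (m : Multiset ℕ) (h1 : ∀ i ∈ m, 2 ≤ i) (h2 : m.sum ≤ 7) (h3 : (m.sum + m.card) % 2 = 0) :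
    m = 0 ∨ m = {3} ∨ m = {5} ∨ m = {7} ∨ m = {2, 2} ∨ m = {3, 3} ∨ m = {4, 2} ∨ m = {2, 2, 3} := by
  have h4 := Multiset.card_nsmul_le_sum h1
  rw [smul_eq_mul] at h4
  obtain h | h | h | h : m.card = 0 ∨ m.card = 1 ∨ m.card = 2 ∨ m.card = 3 := by omega
  · exact .inl (Multiset.card_eq_zero.1 h)
  · obtain ⟨a, rfl⟩ := Multiset.card_eq_one.1 h
    have := h1 a (by simp)
    simp only [Multiset.sum_singleton, Multiset.card_singleton] at h2 h3
    interval_cases a <;> first | decide | omega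
  · obtain ⟨a, b, rfl⟩ := Multiset.card_eq_two.1 h
    have := h1 a (by simp)
    have := h1 b (by simp)
    simp only [Multiset.insert_eq_cons, Multiset.sum_cons, Multiset.sum_singleton, Multiset.card_cons,
      Multiset.card_singleton] at h2 h3
    have : a ≤ 5 := by omega
    have : b ≤ 5 := by omega
    interval_cases a <;> interval_cases b <;> first | decide | omega
  · obtain ⟨a, b, c, rfl⟩ := Multiset.card_eq_three.1 h
    have := h1 a (by simp)
    have := h1 b (by simp)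
    have := h1 c (by simp)
    simp only [Multiset.insert_eq_cons, Multiset.sum_cons, Multiset.sum_singleton, Multiset.card_cons,
      Multiset.card_singleton] at h2 h3
    have : a ≤ 3 := by omega
    have : b ≤ 3 := by omega
    have : c ≤ 3 := by omega
    interval_cases a <;> interval_cases b <;> interval_cases c <;> first | decide | omega

theorem dat (x : alternatingGroup (Fin 7)) : Dat x := by
  have key : ∀ r : alternatingGroup (Fin 7), (r : Perm (Fin 7)).cycleType = (x : Perm (Fin 7)).cycleType → Dat r →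
      Dat x := fun r e h => by
    obtain ⟨g, hg⟩ := isConj_iff.1 (isConj_iff_cycleType_eq.2 e)
    have : MulAut.conjNormal g r = x := Subtype.ext hg
    exact this ▸ h.map (MulAut.conjNormal g)
  have a2 := (mem_alternatingGroup.1 x.2).symm.trans (sign_of_cycleType _)
  rcases types _ (fun j => two_le_of_mem_cycleType) ((x : Perm (Fin 7)).sum_cycleType_le.trans (by simp))
    (Nat.even_iff.1 ((neg_one_pow_eq_one_iff_even (by decide)).1 a2.symm)) with e | e | e | e | e | e | e | e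
  · exact key 1 (e ▸ cycleType_one) (.inl ⟨1, .inl (one_pow _), by simp⟩)
  · exact key (al c[0, 1, 2]) (by rw [e]; decide +kernel) (.inl ⟨al (swap 1 2 * swap 5 6), by decide +kernel⟩)
  · exact key (al c[0, 1, 2, 3, 4]) (by rw [e]; decide +kernel) (.inl ⟨al (c[1, 2, 4, 3] * swap 5 6), by decide +kernel⟩)
  · exact key (al c[0, 1, 2, 3, 4, 5, 6]) (by rw [e]; decide +kernel)
      (.inl ⟨al (c[1, 2, 4] * c[3, 6, 5]), by decide +kernel⟩)
  · exact key (al (swap 0 1 * swap 2 3)) (by rw [e]; decide +kernel)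
      (.inr ⟨⟨al (swap 2 3 * swap 5 6), al (swap 0 2 * swap 1 3), by decide +kernel⟩, .inl (by decide +kernel)⟩)
  · exact key (al (c[0, 1, 2] * c[3, 4, 5])) (by rw [e]; decide +kernel)
      (.inl ⟨al (swap 1 2 * swap 4 5), by decide +kernel⟩)
  · exact key (al (c[0, 1, 2, 3] * swap 4 5)) (by rw [e]; decide +kernel)
      (.inr ⟨⟨al (swap 1 3 * swap 4 5), al c[0, 4, 2, 5, 1], by decide +kernel⟩,
        .inr (.inl ⟨by decide +kernel, by decide +kernel, al c[4, 5, 6], by decide +kernel⟩)⟩)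
  · exact key (al (swap 0 1 * swap 2 3 * c[4, 5, 6])) (by rw [e]; decide +kernel)
      (.inr ⟨⟨al (swap 2 3 * swap 5 6), al (c[0, 2, 1, 3] * swap 4 5), by decide +kernel⟩,
        .inr (.inr ⟨by decide +kernel, al c[1, 2, 3], al c[1, 3, 2], by decide +kernel⟩)⟩)

variable {F : Type u} [Field F]

theorem ch4 {g : G F} (hd : g.val.det = 1) (h4 : g ^ 4 = -1) :
    ∃ s t : F, tr g • (g * g).val = s • g.val + t • 1 := by
  have h := aeval_self_charpoly g.val
  have hn : g.val.charpoly.natDegree = 4 := by rw [charpoly_natDegree_eq_dim, Fintype.card_fin]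
  rw [Polynomial.aeval_eq_sum_range' (n := 5) (by omega)] at h
  have c4 : g.val.charpoly.coeff 4 = 1 := by
    have := g.val.charpoly_monic.coeff_natDegree
    rwa [hn] at this
  have c3 : g.val.charpoly.coeff 3 = -tr g := by
    have := trace_eq_neg_charpoly_coeff g.val
    rw [Fintype.card_fin] at this
    rw [tr, this, neg_neg]
  have c0 : g.val.charpoly.coeff 0 = 1 := by
    have := det_eq_sign_charpoly_coeff g.val
    rw [Fintype.card_fin, hd] at this
    linear_combination -this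
  have e4 : g.val ^ 4 = -1 := by rw [← Units.val_pow_eq_pow_val, h4]; rfl
  simp only [Finset.sum_range_succ, Finset.sum_range_zero, c4, c3, c0, e4, pow_zero, pow_one] at h
  refine ⟨g.val.charpoly.coeff 2, g.val.charpoly.coeff 1, (Units.mul_left_inj g).1 ?_⟩
  rw [Units.val_mul, smul_mul_assoc, add_mul, smul_mul_assoc, smul_mul_assoc, one_mul, ← pow_two, ← pow_succ]
  linear_combination (norm := module) -h

variable (p : ℕ) [hp : Fact p.Prime] [CharP F p]

/-- the trace is real and lies in the prime field -/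
def R (l : G F) : Prop := tr l⁻¹ = tr l ∧ tr l ^ p = tr l

variable {p} {l h : G F}

theorem R.neg (k : R p l) : R p (-l) := by
  refine ⟨by rw [inv_neg, tr_neg, tr_neg, k.1], ?_⟩
  rw [tr_neg, ← frobenius_def, map_neg, frobenius_def, k.2]

theorem unip {n : ℕ} (k : l ^ p ^ n = 1) : R p l :=
  ⟨(tr_of_pow p (n := n) (by rw [inv_pow, k, inv_one])).trans (tr_of_pow p k).symm, by
    rw [tr_of_pow p k, ← frobenius_def, map_natCast]⟩

theorem dbl (k : h * l * h⁻¹ = l ^ 2) (n : ℕ) : tr (l ^ (2 * n)) = tr (l ^ n) := by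
  rw [pow_mul, ← k, conj_pow, tr_conj']

theorem inv_pow' {m : ℕ} (k : l ^ (m + 1) = 1) : l⁻¹ = l ^ m := inv_eq_of_mul_eq_one_left (by rwa [← pow_succ])

theorem rv (k : h * l * h⁻¹ = l⁻¹) (n : ℕ) : tr (l ^ n)⁻¹ = tr (l ^ n) := by rw [← inv_pow, ← k, conj_pow, tr_conj']

theorem frob {m : ℕ} (k : l ^ m = 1) : tr l ^ p = tr (l ^ (p % m)) := by
  rw [← Low5.tr_pow_char, pow_eq_pow_mod p k]

theorem pdvd (q : ℕ) (hq : q.Prime) : p % q = 0 → p = q := fun e =>
  ((Nat.prime_dvd_prime_iff_eq hq hp.out).1 (Nat.dvd_of_mod_eq_zero e)).symm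

theorem odd3 (k : l ^ 3 = 1) (k' : h * l * h⁻¹ = l ^ 2) : R p l := by
  have d := dbl k' 1
  rw [pow_one] at d
  obtain e | e | e : p % 3 = 0 ∨ p % 3 = 1 ∨ p % 3 = 2 := by omega
  · exact unip (n := 1) (by rw [pow_one, pdvd 3 (by norm_num) e, k])
  · exact ⟨by rw [inv_pow' k, d], by rw [frob k, e, pow_one]⟩
  · exact ⟨by rw [inv_pow' k, d], by rw [frob k, e, d]⟩

theorem odd5 (k : l ^ 5 = 1) (k' : h * l * h⁻¹ = l ^ 2) : R p l := by
  have d2 := dbl k' 1
  rw [pow_one] at d2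
  have d4 := (dbl k' 2).trans d2
  have d3 := (dbl k' 4).trans d4
  rw [pow_eq_pow_mod _ k] at d3
  obtain e | e | e | e | e : p % 5 = 0 ∨ p % 5 = 1 ∨ p % 5 = 2 ∨ p % 5 = 3 ∨ p % 5 = 4 := by omega
  · exact unip (n := 1) (by rw [pow_one, pdvd 5 (by norm_num) e, k])
  all_goals refine ⟨by rw [inv_pow' k, d4], ?_⟩; rw [frob k, e]
  exacts [by rw [pow_one], d2, d3, d4]

theorem odd7 (k : l ^ 7 = 1) (k' : h * l * h⁻¹ = l ^ 2) :
    (p % 7 = 1 ∨ p % 7 = 2 ∨ p % 7 = 4 → tr l ^ p = tr l) ∧ (p % 7 = 3 ∨ p % 7 = 5 ∨ p % 7 = 6 → tr l ^ p = tr l⁻¹) ∧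
      (p = 7 → tr l⁻¹ = tr l) := by
  have d2 := dbl k' 1
  rw [pow_one] at d2
  have d4 := (dbl k' 2).trans d2
  have d3 := (dbl k' 3).symm
  have d5 := dbl k' 6
  rw [pow_eq_pow_mod _ k] at d5
  refine ⟨?_, ?_, fun e => (unip (p := p) (n := 1) (by rw [pow_one, e, k])).1⟩ <;> rw [frob k]
  · rintro (e | e | e) <;> rw [e]
    exacts [by rw [pow_one], d2, d4]
  · rw [inv_pow' k]
    rintro (e | e | e) <;> rw [e]
    exacts [d3, d5]

theorem ev4 (k : l ^ 4 = 1) (k' : h * l * h⁻¹ = l⁻¹) : R p l := by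
  have d := rv k' 1
  rw [pow_one] at d
  have := pdvd (p := p) 2 (by norm_num)
  obtain e | e | e : p = 2 ∨ p % 4 = 1 ∨ p % 4 = 3 := by omega
  · exact unip (n := 2) (by rw [e]; exact k)
  · exact ⟨d, by rw [frob k, e, pow_one]⟩
  · exact ⟨d, by rw [frob k, e, ← inv_pow' k, d]⟩

theorem ev6 (k : l ^ 6 = 1) (k' : h * l * h⁻¹ = l⁻¹) : R p l := by
  have d := rv k' 1
  rw [pow_one] at d
  have := pdvd (p := p) 2 (by norm_num)
  have := pdvd (p := p) 3 (by norm_num)
  refine ⟨d, ?_⟩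
  obtain e | e | e | e : p = 2 ∨ p = 3 ∨ p % 6 = 1 ∨ p % 6 = 5 := by omega
  · refine frobenius_inj F p ?_
    rw [frobenius_def, frobenius_def, ← Low5.tr_pow_char, ← Low5.tr_pow_char, e, ← rv k' 2]
    exact congrArg tr (eq_inv_of_mul_eq_one_left (by rw [← pow_mul, ← pow_add, k]))
  · refine frobenius_inj F p ?_
    rw [frobenius_def, frobenius_def, ← Low5.tr_pow_char, ← Low5.tr_pow_char, e, ← pow_mul, pow_eq_pow_mod _ k]
  · rw [frob k, e, pow_one]
  · rw [frob k, e, ← inv_pow' k, d]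

theorem zero (k : tr l = 0) (k' : h * l * h⁻¹ = l⁻¹) : R p l :=
  ⟨by rw [← k', tr_conj'], by rw [k, zero_pow hp.out.ne_zero]⟩

variable [Finite F] {P : Subgroup (G F)} {π : P →* alternatingGroup (Fin 7)}

theorem sq_one (c : Cov π) (hP : QS P) {z : P} (hz : π z = 1) : z * z = 1 := by
  have h6 : z ^ 6 = 1 := by
    obtain ⟨k, hk⟩ := CL.Known.card_ker_dvd_six (σ := π) ⟨c.surj, fun y hy =>
      scalars_subgroupOf_le_center P ((c.ker y).1 hy), fun y _ => by
        obtain ⟨x, hx, e⟩ : (y : G F) ∈ (commutator P).map P.subtype := by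
          rw [commutator_def, Subgroup.map_commutator, ← MonoidHom.range_eq_map, Subgroup.range_subtype, hP.perfect]
          exact y.2
        exact Subtype.ext e ▸ hx⟩ (by simp)
    have := congrArg Subtype.val (pow_card_eq_one' (x := (⟨z, hz⟩ : π.ker)))
    rw [hk, pow_mul, show z ^ Nat.card π.ker = 1 from this, one_pow]
  have h4 : z ^ 4 = 1 := Subtype.ext (by
    simpa using pow_card_eq_one_of_scalar ((c.ker z).1 hz) (hP.le_SL z.2))
  rw [← pow_two, ← h6, show 6 = 4 + 2 from rfl, pow_add, h4, one_mul]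

theorem sg (c : Cov π) (hP : QS P) {z : P} (hz : π z = 1) : z = 1 ∨ ((2 : F) ≠ 0 ∧ (z : G F) = -1) := by
  obtain ⟨a, ha⟩ := mem_scalars_iff'.1 ((c.ker z).1 hz)
  have h1 := congrArg (fun x : P => (x : G F).val 0 0) (sq_one c hP hz)
  simp only [Subgroup.coe_mul, Units.val_mul, ha] at h1
  have h2 : a * a = 1 := by simpa using h1
  by_cases e : a = 1
  · exact .inl (Subtype.ext (Units.ext (by rw [ha, e, one_smul]; rfl)))
  · obtain rfl := (mul_self_eq_one_iff.1 h2).resolve_left e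
    exact .inr ⟨fun e' => e (by linear_combination -e'), Units.ext (by rw [ha]; simp)⟩

theorem pm (c : Cov π) (hP : QS P) {a b : P} (e : π a = π b) : b = a ∨ ((2 : F) ≠ 0 ∧ (b : G F) = -a) := by
  obtain ⟨z, hz, rfl, -⟩ := c.exists_mul e
  refine (sg c hP ((c.ker z).2 hz)).imp (fun e => by rw [e, mul_one]) fun e => ⟨e.1, ?_⟩
  rw [Subgroup.coe_mul, e.2, mul_neg_one]

theorem cen (c : Cov π) {z : P} (hz : π z = 1) (x : P) : x * z = z * x :=
  Subgroup.mem_center_iff.1 (scalars_subgroupOf_le_center P ((c.ker z).1 hz)) x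

theorem uniq (c : Cov π) (hP : QS P) {r : ℕ} (hr : Odd r) {a b : P} (e : π a = π b) (ha : a ^ r = 1)
    (hb : b ^ r = 1) : b = a := by
  refine (pm c hP e).resolve_right fun ⟨h2, k⟩ => h2 ?_
  have h1 : (b : G F) ^ r = 1 := congrArg Subtype.val hb
  rw [k, hr.neg_pow, show (a : G F) ^ r = 1 from congrArg Subtype.val ha] at h1
  have := congrArg (fun x : G F => x.val 0 0) h1
  simp at this
  linear_combination -this

theorem lift (c : Cov π) (hP : QS P) {r : ℕ} (hr : Odd r) {x : alternatingGroup (Fin 7)} (hx : x ^ r = 1) :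
    ∃ a : P, π a = x ∧ a ^ r = 1 := by
  obtain ⟨a, rfl⟩ := c.surj x
  obtain ⟨k, rfl⟩ := hr
  refine ⟨a ^ (2 * k + 1 + 1), by rw [map_pow, pow_succ, hx, one_mul], ?_⟩
  rw [← pow_mul, mul_comm, pow_mul, show 2 * k + 1 + 1 = 2 * (k + 1) by ring, pow_mul, pow_two,
    sq_one c hP (by rwa [map_pow]), one_pow]

theorem odd_lift (c : Cov π) (hP : QS P) {r : ℕ} (hr : Odd r) {l : P} (hx : π l ^ r = 1)
    {y : alternatingGroup (Fin 7)} (hy : y * π l * y⁻¹ = π l ^ 2) :
    ∃ a h : G F, a ^ r = 1 ∧ h * a * h⁻¹ = a ^ 2 ∧ ((l : G F) = a ∨ (l : G F) = -a) := by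
  obtain ⟨a, e, ha⟩ := lift c hP hr hx
  obtain ⟨h, rfl⟩ := c.surj y
  refine ⟨a, h, congrArg Subtype.val ha, congrArg Subtype.val (uniq c hP hr (a := a ^ 2) (b := h * a * h⁻¹)
    (by simp only [map_mul, map_inv, map_pow, e, hy]) (by rw [← pow_mul, mul_comm, pow_mul, ha, one_pow])
    (by rw [conj_pow, ha, mul_one, mul_inv_cancel])), (pm c hP e).imp (congrArg _) And.right⟩

theorem real (c : Cov π) (hP : QS P) {l : P} {a y : alternatingGroup (Fin 7)} (h1 : a * a = 1)
    (h2 : π l = a * (y * a * y⁻¹)) : ∃ h : G F, h * l * h⁻¹ = (l : G F)⁻¹ := by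
  obtain ⟨a, rfl⟩ := c.surj a
  obtain ⟨y, rfl⟩ := c.surj y
  rw [← map_mul] at h1
  have k : a * (a * (y * a * y⁻¹)) * a⁻¹ = (a * (y * a * y⁻¹))⁻¹ := by
    calc _ = (a * a * y) * a * y⁻¹ * a⁻¹ := by group
      _ = y * (a * a * (a * a)) * a⁻¹ * y⁻¹ * a⁻¹ := by rw [← cen c h1 y]; group
      _ = _ := by rw [sq_one c hP h1]; group
  have k' : (a : G F) * (a * (y * a * y⁻¹) : P) * (a : G F)⁻¹ = ((a * (y * a * y⁻¹) : P) : G F)⁻¹ :=
    congrArg Subtype.val k
  refine ⟨a, ?_⟩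
  rcases pm c hP (a := a * (y * a * y⁻¹)) (b := l) (by simp only [map_mul, map_inv, h2]) with e | ⟨-, e⟩ <;> rw [e]
  · exact k'
  · rw [mul_neg, neg_mul, k', inv_neg]

theorem key (c : Cov π) (hP : QS P) (l : P) : R p (l : G F) ∨
    ∃ a h : G F, a ^ 7 = 1 ∧ h * a * h⁻¹ = a ^ 2 ∧ ((l : G F) = a ∨ (l : G F) = -a) := by
  rcases dat (π l) with ⟨y, h1 | h1 | h1, h2⟩ | ⟨⟨a, y, h1, h2⟩, h⟩
  · obtain ⟨a, h, k1, k2, e | e⟩ := odd_lift c hP (by decide) h1 h2 <;> rw [e]
    exacts [.inl (odd3 k1 k2), .inl (odd3 k1 k2).neg]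
  · obtain ⟨a, h, k1, k2, e | e⟩ := odd_lift c hP (by decide) h1 h2 <;> rw [e]
    exacts [.inl (odd5 k1 k2), .inl (odd5 k1 k2).neg]
  · exact .inr (odd_lift c hP (by decide) h1 h2)
  left
  obtain ⟨v, hv⟩ := real c hP h1 h2
  rcases h with h | ⟨h3, h4, h, h5, h6, h7⟩ | ⟨h3, y, y', h4, h5⟩
  · refine ev4 (congrArg Subtype.val (show l ^ 4 = 1 from ?_)) hv
    exact (pow_add l 2 2).trans (sq_one c hP (by rwa [map_pow]))
  · rcases sg c hP (z := l ^ 4) (by rwa [map_pow]) with e | ⟨-, e⟩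
    · exact ev4 (congrArg Subtype.val e) hv
    refine zero (by_contra fun t0 => ?_) hv
    obtain ⟨s, t, k⟩ := ch4 (mem_specialLinear_iff.1 (hP.le_SL l.2)) e
    obtain ⟨h, rfl, k3⟩ := lift c hP (by decide) h5
    have k4 : l * l * h * (l * l)⁻¹ = h := uniq c hP (r := 3) (by decide) (by simp only [map_mul, map_inv, h6]) k3
      (by rw [conj_pow, k3, mul_one, mul_inv_cancel])
    have k5 : ((l : G F) * l).val * (h : G F).val = (h : G F).val * ((l : G F) * l).val :=
      congrArg (fun x : P => (x : G F).val) (mul_inv_eq_iff_eq_mul.1 k4)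
    have k6 : s • ((h : G F).val * (l : G F).val) = s • ((l : G F).val * (h : G F).val) := by
      have := congrArg (tr (l : G F) • ·) k5
      rw [← smul_mul_assoc, ← mul_smul_comm, k, add_mul, mul_add, smul_mul_assoc, smul_mul_assoc, mul_smul_comm,
        mul_smul_comm, one_mul, mul_one] at this
      exact (add_right_cancel this).symm
    by_cases s0 : s = 0
    · refine h4 (by
        rw [← map_mul, c.ker]
        refine mem_scalars_iff'.2 ⟨(tr (l : G F))⁻¹ * t, ?_⟩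
        rw [s0, zero_smul, zero_add] at k
        rw [mul_smul, ← k, inv_smul_smul₀ t0]; rfl)
    · exact h7 (by
        rw [← map_mul, ← map_mul]
        exact congrArg π (Subtype.ext (Units.ext (smul_right_injective _ s0 k6))))
  · rcases sg c hP (z := l ^ 6) (by rwa [map_pow]) with e | ⟨two, e⟩
    · exact ev6 (congrArg Subtype.val e) hv
    obtain ⟨y, rfl⟩ := c.surj y
    obtain ⟨y', rfl⟩ := c.surj y'
    obtain ⟨w, hw⟩ : ∃ w, w = l ^ 3 := ⟨_, rfl⟩
    have w2 : (w : G F) * w = -1 := by rw [← e, hw, Subgroup.coe_pow, Subgroup.coe_pow, ← pow_add]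
    have cj : ∀ y : P, ((y * w * y⁻¹ : P) : G F) * (y * w * y⁻¹ : P) = -1 := fun y => by
      simp only [Subgroup.coe_mul, Subgroup.coe_inv, conj_mul, w2, mul_neg_one, neg_mul, mul_inv_cancel]
    have k1 : ((w * (y * w * y⁻¹) : P) : G F) * (w * (y * w * y⁻¹) : P) = -1 := by
      rcases pm c hP (a := y' * w * y'⁻¹) (b := w * (y * w * y⁻¹))
        (by simp only [map_mul, map_inv, hw, map_pow, h5]) with k | ⟨-, k⟩ <;> rw [k]
      · exact cj y'
      · rw [neg_mul_neg, cj y']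
    have k2 := cj y
    have k3 := pm c hP (a := l) (b := y * w * y⁻¹ * l * (y * w * y⁻¹)⁻¹)
      (by simp only [map_mul, map_inv, hw, map_pow, h4])
    generalize y * w * y⁻¹ = w' at k1 k2 k3
    rcases k3 with k | ⟨-, k⟩
    · exfalso
      have k4 : (w' : G F) * w = w * w' :=
        congrArg Subtype.val (show w' * w = w * w' from hw ▸ (Commute.pow_right (mul_inv_eq_iff_eq_mul.1 k) 3).eq)
      rw [Subgroup.coe_mul, mul_assoc, ← mul_assoc (w' : G F), k4, mul_assoc, k2, ← mul_assoc, w2, neg_mul_neg,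
        one_mul] at k1
      have := congrArg (fun x : G F => x.val 0 0) k1
      simp at this
      exact two (by linear_combination this)
    · have := congrArg tr k
      rw [Subgroup.coe_mul, Subgroup.coe_mul, Subgroup.coe_inv, tr_conj', tr_neg] at this
      exact zero ((mul_eq_zero.1 (show 2 * tr (l : G F) = 0 by linear_combination this)).resolve_left two) hv

end A7x

open A7x in
theorem subA7 : SubA7.{u} := by
  intro F _ _ P hP ⟨e⟩
  obtain ⟨π, c⟩ := exists_cov e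
  have : Fact (ringChar F).Prime := ⟨CharP.char_is_prime F _⟩
  have ng : ∀ a : F, (-a) ^ ringChar F = -a ^ ringChar F := fun a => by
    rw [← frobenius_def, map_neg, frobenius_def]
  refine ⟨fun h l hl => ?_, fun h l hl => ?_, fun h l hl => ?_⟩ <;>
    rcases key (p := ringChar F) c hP ⟨l, hl⟩ with k | ⟨a, g, k1, k2, rfl | rfl⟩
  · exact k.2
  · exact (odd7 k1 k2).1 h
  · rw [tr_neg, ng, (odd7 k1 k2).1 h]
  · exact k.2.trans k.1.symm
  · exact (odd7 k1 k2).2.1 h
  · rw [inv_neg, tr_neg, tr_neg, ng, (odd7 k1 k2).2.1 h]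
  · exact k.1
  · exact (odd7 k1 k2).2.2 h
  · rw [inv_neg, tr_neg, tr_neg, (odd7 k1 k2).2.2 h]

end CL.Low4
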