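/-
Project LOW4: explicit small subgroups of `L₄(3)`, `G₂(3)`, `U₄(3)`, `M₁₁` and `L₃(4)`.
-/
import Cfsg.Agent.Low4.Defs3
import Cfsg.Agent.Known.MXG2d
import Cfsg.Agent.Cls.OrthIso6Minus
import Cfsg.Agent.K.InvMat
import Cfsg.Agent.Low5.M11

set_option autoImplicit false

namespace CL.Low4

open Matrix Cfsg Cfsg.Geo CL.Asch CL.SLn CL.Low Module
open scoped commutatorElement MatrixGroups

universe u

namespace DHE

section Gen

variable {A B : Type*} [Group A] [Group B]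

theorem he3_map (f : A →* B) (hf : f.ker ≤ Subgroup.center A) (h : He3 A) : He3 B := by
  obtain ⟨x, y, z, h, ⟨h1, h2, h3, h4, h5, h6⟩, h7⟩ := h
  refine ⟨f x, f y, f z, f h, ⟨by rw [← map_pow, h1, map_one], by rw [← map_pow, h2, map_one],
    by rw [h3, map_commutatorElement], fun e => h4 ?_, h5.map f, h6.map f⟩, by
      rw [← map_inv, ← map_mul, ← map_mul, h7, map_inv]⟩
  have e1 : z = z⁻¹ := by rw [← h7, Subgroup.mem_center_iff.1 (hf e) h, mul_inv_cancel_right]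
  have e2 : y * x⁻¹ * y⁻¹ = x⁻¹ * z := by rw [h3, commutatorElement_def]; group
  have e3 : z ^ 3 = 1 := by
    have := congrArg (· ^ 3) e2
    simp only [conj_pow, h5.symm.inv_left.mul_pow, inv_pow, h1, inv_one, mul_one, mul_inv_cancel, one_mul] at this
    exact this.symm
  rwa [pow_three, mul_eq_one_iff_eq_inv.2 e1, mul_one] at e3

theorem he3_equiv (e : B ≃* A) (h : He3 A) : He3 B :=
  he3_map e.symm.toMonoidHom (by rw [(MonoidHom.ker_eq_bot_iff _).2 e.symm.injective]; exact bot_le) h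

theorem he3_quot (h : He3 A) : He3 (A ⧸ Subgroup.center A) :=
  he3_map (QuotientGroup.mk' _) (QuotientGroup.ker_mk' _).le h

theorem he3_of {x y z h : A} (h1 : x * (x * x) = 1) (h2 : y * (y * y) = 1) (h3 : x * y = z * (y * x)) (h4 : z ≠ 1)
    (h5 : z * x = x * z) (h6 : z * y = y * z) (h7 : z * (h * z) = h) : He3 A :=
  ⟨x, y, z, h, ⟨by rw [pow_three, h1], by rw [pow_three, h2], by rw [commutatorElement_def, h3]; group, h4, h5, h6⟩,
    by rw [mul_inv_eq_iff_eq_mul, eq_inv_mul_iff_mul_eq, h7]⟩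

theorem f9_equiv (e : B ≃* A) (h : F9Q A) : F9Q B := by
  obtain ⟨x, y, g, h, h1, h2, h3, h4, h5, h6, h7, h8⟩ := h
  refine ⟨e.symm x, e.symm y, e.symm g, e.symm h, ?_, ?_, e.symm.map_ne_one_iff.2 h3, h4.map _, ?_, ?_, ?_, ?_⟩ <;>
    simp only [← map_pow, ← map_inv, ← map_mul, h1, h2, h5, h6, h7, h8, map_one]

theorem f115_equiv (e : B ≃* A) (h : F115 A) : F115 B := by
  obtain ⟨x, y, h1, h2, h3⟩ := h
  refine ⟨e.symm x, e.symm y, ?_, e.symm.map_ne_one_iff.2 h2, ?_⟩ <;>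
    simp only [← map_pow, ← map_inv, ← map_mul, h1, h3, map_one]

end Gen

theorem he3_L43 : He3 SL(4, ZMod 3) :=
  he3_of (x := ⟨!![1, 1, 0, 0; 0, 1, 0, 0; 0, 0, 1, 0; 0, 0, 0, 1], by decide +kernel⟩)
    (y := ⟨!![1, 0, 0, 0; 0, 1, 1, 0; 0, 0, 1, 0; 0, 0, 0, 1], by decide +kernel⟩)
    (z := ⟨!![1, 0, 1, 0; 0, 1, 0, 0; 0, 0, 1, 0; 0, 0, 0, 1], by decide +kernel⟩)
    (h := ⟨!![2, 0, 0, 0; 0, 1, 0, 0; 0, 0, 1, 0; 0, 0, 0, 2], by decide +kernel⟩)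
    (Subtype.ext (by decide +kernel)) (Subtype.ext (by decide +kernel)) (Subtype.ext (by decide +kernel))
    (fun e => absurd (congrArg Subtype.val e) (by decide +kernel)) (Subtype.ext (by decide +kernel))
    (Subtype.ext (by decide +kernel)) (Subtype.ext (by decide +kernel))

open CL.MX.G2 CL.Chev CL.Chev.Cert Cfsg.Lie in
theorem he3_G2 {K : Type} [Field K] (h3 : (3 : K) = 0) : He3 (chevG2.group K) := by
  have z0 : ∀ {r : ℕ}, r < chevG2.nroots → xg r (0 : K) = 1 := fun h => by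
    have := xg_add h (0 : K) 0
    rwa [add_zero, left_eq_mul] at this
  have c3 : ∀ {r : ℕ}, r < chevG2.nroots → xg r (1 : K) * (xg r 1 * xg r 1) = 1 := fun h => by
    rw [← xg_add h, ← xg_add h, ← z0 h, ← h3]; congr 1; ring
  have k1 : Commute (xg 6 (1 : K)) (xg 11 (-1)) := xg_commute (by decide +kernel) _ _
  have k2 : Commute (xg 10 (1 : K)) (xg 11 (-1)) := xg_commute (by decide +kernel) _ _
  refine he3_of (x := xg 10 1) (y := xg 6 1) (z := xg 11 (-1)) (h := tg (-1) 1) (c3 (by decide)) (c3 (by decide))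
    ?_ ?_ k2.symm.eq k1.symm.eq ?_
  · rw [xg_comm (r := 6) (s := 10) (l := [(11, 1, 1, 1)]) (by decide +kernel), ← (k1.mul_left k2).eq]
    simp
  · rw [xg_lt (by decide), Ne, (realG2.full K).faithful.x_eq_one_iff]
    simp
  · rw [tg_xg (s := 11) (i := 3) (j := 2) (by decide +kernel) (by simp) one_ne_zero, ← mul_assoc,
      ← xg_add (by decide), show (-1 + (-1) ^ 3 * 1 ^ 2 * -1 : K) = 0 by ring, z0 (by decide), one_mul]

/-- the field with nine elements -/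
abbrev F9 : Type := QuadraticAlgebra (ZMod 3) 2 0
instance : Fact (∀ r : ZMod 3, r ^ 2 ≠ 2 + 0 * r) := ⟨by decide⟩
instance : Fintype F9 := Fintype.ofEquiv _ (QuadraticAlgebra.equivProd _ _).symm
theorem card_F9 : Fintype.card F9 = 9 := by rw [Fintype.ofEquiv_card]; rfl

theorem mem_SU_of {A : SL(4, F9)} (h : A.1ᵀ * A.1.map star = 1) : A ∈ Cfsg.SU 4 F9 3 := by
  have h3 : ∀ x : F9, x ^ 3 = star x := by decide +kernel
  intro u v
  change Cfsg.hermForm 4 F9 3 (A.1 *ᵥ u) (A.1 *ᵥ v) = _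
  have e : ∀ u v : Fin 4 → F9, Cfsg.hermForm 4 F9 3 u v = u ⬝ᵥ (starRingEnd F9 ∘ v) := fun u v => by
    simp [Cfsg.hermForm, h3, dotProduct, starRingEnd_apply]
  have e' : starRingEnd F9 ∘ (A.1 *ᵥ v) = A.1.map star *ᵥ (starRingEnd F9 ∘ v) :=
    funext fun i => RingHom.map_mulVec (starRingEnd F9) A.1 v i
  rw [e, e, e', ← Matrix.vecMul_transpose, ← Matrix.dotProduct_mulVec, Matrix.mulVec_mulVec, h, Matrix.one_mulVec]

theorem he3_U43 : He3 (Cfsg.SU 4 F9 3) :=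
  he3_of (x := ⟨⟨!![0, 0, 1, 0; 1, 0, 0, 0; 0, 1, 0, 0; 0, 0, 0, 1], by decide +kernel⟩, mem_SU_of (by decide +kernel)⟩)
    (y := ⟨⟨!![0, ⟨2, 1⟩, ⟨2, 2⟩, 0; ⟨2, 1⟩, ⟨0, 2⟩, ⟨2, 0⟩, 0; ⟨2, 2⟩, ⟨2, 0⟩, ⟨0, 1⟩, 0; 0, 0, 0, 1],
      by decide +kernel⟩, mem_SU_of (by decide +kernel)⟩)
    (z := ⟨⟨!![⟨1, 1⟩, ⟨0, 1⟩, ⟨0, 1⟩, 0; ⟨0, 1⟩, ⟨1, 1⟩, ⟨0, 1⟩, 0; ⟨0, 1⟩, ⟨0, 1⟩, ⟨1, 1⟩, 0; 0, 0, 0, 1],
      by decide +kernel⟩, mem_SU_of (by decide +kernel)⟩)
    (h := ⟨⟨!![⟨0, 1⟩, ⟨0, 1⟩, ⟨1, 2⟩, 0; 1, ⟨1, 1⟩, ⟨2, 0⟩, 0; ⟨1, 1⟩, 1, ⟨2, 0⟩, 0; 0, 0, 0, 1],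
      by decide +kernel⟩, mem_SU_of (by decide +kernel)⟩)
    (by decide +kernel) (by decide +kernel) (by decide +kernel) (by decide +kernel) (by decide +kernel)
    (by decide +kernel) (by decide +kernel)

/-- the field with four elements -/
abbrev F4 : Type := QuadraticAlgebra (ZMod 2) 1 1
instance : Fact (∀ r : ZMod 2, r ^ 2 ≠ 1 + 1 * r) := ⟨by decide⟩
instance : Fintype F4 := Fintype.ofEquiv _ (QuadraticAlgebra.equivProd _ _).symm
theorem card_F4 : Fintype.card F4 = 4 := by rw [Fintype.ofEquiv_card]; rfl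

theorem f9_L34 : F9Q PSL(3, F4) := by
  let x : SL(3, F4) := ⟨!![1, 0, 0; 0, ⟨0, 1⟩, 0; 0, 0, ⟨1, 1⟩], by decide +kernel⟩
  let y : SL(3, F4) := ⟨!![0, 0, 1; 1, 0, 0; 0, 1, 0], by decide +kernel⟩
  let w : SL(3, F4) := ⟨!![⟨0, 1⟩, 0, 0; 0, ⟨0, 1⟩, 0; 0, 0, ⟨0, 1⟩], by decide +kernel⟩
  let g : SL(3, F4) := ⟨!![1, 1, 1; 1, ⟨1, 1⟩, ⟨0, 1⟩; 1, ⟨0, 1⟩, ⟨1, 1⟩], by decide +kernel⟩
  let h : SL(3, F4) := ⟨!![1, ⟨0, 1⟩, ⟨0, 1⟩; ⟨0, 1⟩, ⟨0, 1⟩, 1; 1, ⟨1, 1⟩, 1], by decide +kernel⟩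
  let π : SL(3, F4) →* PSL(3, F4) := QuotientGroup.mk' _
  have hw : π w = 1 := (QuotientGroup.eq_one_iff w).2
    (Matrix.SpecialLinearGroup.mem_center_iff.2 ⟨(⟨0, 1⟩ : F4), by decide +kernel, by decide +kernel⟩)
  have y3 : y * (y * y) = 1 := by decide +kernel
  refine ⟨π x, π y, π g, π h, by rw [← map_pow, pow_three, show x * (x * x) = 1 by decide +kernel, map_one],
    by rw [← map_pow, pow_three, y3, map_one], fun e => ?_, ?_, ?_, ?_, ?_, ?_⟩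
  · exact absurd (Subgroup.mem_center_iff.1 ((QuotientGroup.eq_one_iff x).1 e) y) (by decide +kernel)
  · rw [Commute, SemiconjBy, ← map_mul, show x * y = w * (y * x) by decide +kernel, map_mul, hw, one_mul, map_mul]
  · rw [mul_inv_eq_iff_eq_mul, ← map_mul, ← map_mul, show g * x = y * g by decide +kernel]
  · rw [mul_inv_eq_iff_eq_mul, eq_inv_mul_iff_mul_eq, ← map_mul, ← map_mul, 
      show x * (g * y) = g from Subtype.ext (by decide +kernel)]
  · rw [mul_inv_eq_iff_eq_mul, ← map_mul, ← map_mul, ← map_mul, show h * x = x * y * h by decide +kernel]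
  · rw [mul_inv_eq_iff_eq_mul, ← map_inv, ← map_mul, ← map_mul, ← map_mul, inv_eq_of_mul_eq_one_right y3,
      show h * y = x * (y * y) * h by decide +kernel]

open scoped Pointwise in
open CL.Spor CL.IV.Mat MulAction in
theorem m11 : F115 (stabilizer M24 dod0 ⊓ stabilizer M24 (gPt 0) : Subgroup M24) ∧
    F9Q (stabilizer M24 dod0 ⊓ stabilizer M24 (gPt 0) : Subgroup M24) := by
  obtain ⟨a, ha, ra⟩ := good_of_inC chain11 217659858509939740509415197420686400 (by decide +kernel)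
  obtain ⟨b, hb, rb⟩ := good_of_inC chain11 735586561504953295002855977750269984 (by decide +kernel)
  obtain ⟨x, hx, rx⟩ := good_of_inC chain11 487607080158395075740321133224921120 (by decide +kernel)
  obtain ⟨y, hy, ry⟩ := good_of_inC chain11 984769902586367543974814854303385632 (by decide +kernel)
  obtain ⟨g, hg, rg⟩ := good_of_inC chain11 719923664328491199848526586197411872 (by decide +kernel)
  obtain ⟨h, hh, rh⟩ := good_of_inC chain11 609271311764373893382231684089481248 (by decide +kernel)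
  exact ⟨⟨⟨a, ha⟩, ⟨b, hb⟩, Subtype.ext ((ra.pow 11).eq_one_iff.2 (by decide +kernel)),
    fun e => absurd (ra.eq_one_iff.1 (congrArg Subtype.val e)) (by decide +kernel),
    Subtype.ext (((rb.conj ra).eq_iff (ra.pow 3)).2 (by decide +kernel))⟩,
    ⟨x, hx⟩, ⟨y, hy⟩, ⟨g, hg⟩, ⟨h, hh⟩, Subtype.ext ((rx.pow 3).eq_one_iff.2 (by decide +kernel)),
    Subtype.ext ((ry.pow 3).eq_one_iff.2 (by decide +kernel)),
    fun e => absurd (rx.eq_one_iff.1 (congrArg Subtype.val e)) (by decide +kernel),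
    Subtype.ext (((rx.mul ry).eq_iff (ry.mul rx)).2 (by decide +kernel)),
    Subtype.ext (((rg.conj rx).eq_iff ry).2 (by decide +kernel)),
    Subtype.ext (((rg.conj ry).eq_iff rx.inv).2 (by decide +kernel)),
    Subtype.ext (((rh.conj rx).eq_iff (rx.mul ry)).2 (by decide +kernel)),
    Subtype.ext (((rh.conj ry).eq_iff (rx.mul ry.inv)).2 (by decide +kernel))⟩

end DHE

open DHE

theorem dataHe : DataHe.{u} := by
  intro H _ K _ _
  refine ⟨fun hK h => ?_, fun hK ⟨e⟩ => ?_⟩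
  · rcases h with ⟨⟨e⟩⟩ | ⟨⟨e⟩⟩
    · obtain ⟨e'⟩ := nonempty_psl_equiv_of_card_eq (ι := Fin 4) (hK.trans (ZMod.card 3).symm)
      exact he3_equiv (e.trans e') (he3_quot he3_L43)
    · exact he3_equiv e (he3_G2 (by exact_mod_cast hK ▸ FiniteField.cast_card_eq_zero K))
  · obtain ⟨e'⟩ := CL.Cls.nonempty_psu_equiv_of_card_eq (hK.trans card_F9.symm) 4 3
    exact he3_equiv (e.trans e') (he3_quot he3_U43)

theorem dataF9 : DataF9.{u} := by
  intro H _ _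
  refine ⟨fun hM => ?_, fun K _ _ hK ⟨e⟩ => ?_⟩
  · obtain ⟨e⟩ := CL.Spor.nonempty_mulEquiv_of_isM11 hM ⟨CL.Spor.M11_simple, CL.Spor.card_M11⟩
    exact ⟨f115_equiv (e.trans CL.Spor.equivM11.symm) m11.1, f9_equiv (e.trans CL.Spor.equivM11.symm) m11.2⟩
  · obtain ⟨e'⟩ := nonempty_psl_equiv_of_card_eq (ι := Fin 3) (hK.trans card_F4.symm)
    exact f9_equiv (e.trans e') f9_L34

end CL.Low4
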