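/-
Project LOW4: quasisimple subgroups of `GL₄` covering `L₂(q)`.
-/
import Cfsg.Agent.Low4.Defs3
import Cfsg.Agent.Low5.L2
import Cfsg.Agent.Low.D3Dih
import Cfsg.Agent.Cls.SmallIso
import Cfsg.Agent.S2118

set_option autoImplicit false

namespace CL.Low4

open Matrix Cfsg Cfsg.Geo CL.Asch CL.SLn CL.Low Module
open scoped commutatorElement MatrixGroups

universe u

namespace L2x

theorem lift_cop {Q H X : Type*} [Group Q] [Group H] [Group X] {n : ℕ} [NeZero n] (hA : HasCyclicSchurMultiplier Q n)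
    (hQ : Group.IsPerfect Q) (f : Q →* H) (ξ : X →* H) (hξ : Function.Surjective ξ) (hc : ξ.ker ≤ Subgroup.center X)
    (hk : ∀ z ∈ ξ.ker, z ^ n = 1 → z = 1) : ∃ η : Q →* X, ξ.comp η = f := by
  obtain ⟨Γ, _, _, σ, hσ, ⟨e⟩⟩ := hA.1
  have hn : Nat.card σ.ker = n := by rw [Nat.card_congr e.toEquiv]; simp
  obtain ⟨η, hη⟩ := CL.Schur.exists_lift_of_perfect_cover hA hQ hσ (Nat.card_congr e.toEquiv).ge f ξ hξ hc
  have h1 : ∀ z, ξ (η z) = f (σ z) := DFunLike.congr_fun hη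
  refine ⟨σ.liftOfSurjective hσ.1 ⟨η, fun z hz => hk _ ?_ ?_⟩, MonoidHom.ext fun q => ?_⟩
  · rw [MonoidHom.mem_ker, h1, MonoidHom.mem_ker.1 hz, map_one]
  · rw [← map_pow, ← hn, show z ^ Nat.card σ.ker = 1 from
      congrArg Subtype.val (pow_card_eq_one' (G := σ.ker) (x := ⟨z, hz⟩)), map_one]
  · obtain ⟨z, rfl⟩ := hσ.1 q
    exact (congrArg ξ (MonoidHom.liftOfRightInverse_comp_apply _ _ _ _ z)).trans (h1 z)

theorem lift {F : Type u} [Field F] {P : Subgroup (G F)} {K : Type} [Field K] [Fintype K] (h : 4 ≤ Fintype.card K)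
    (h4 : Fintype.card K ≠ 4) (h9 : Fintype.card K = 9 → P ≤ specialLinear (Fin 4) F) (f : SL(2, K) →* PQ P) :
    ∃ η : SL(2, K) →* P, (QuotientGroup.mk' _).comp η = f := by
  obtain ⟨a, ha0, ha⟩ := CL.SLn.exists_sq_ne_one_of_four_le (F := K) (by rwa [Nat.card_eq_fintype_card])
  have hp := isPerfect_SL (ι := Fin 2) (F := K) (Or.inr ⟨a, ha0, ha⟩)
  have hc := (QuotientGroup.ker_mk' _).le.trans (scalars_subgroupOf_le_center P)
  by_cases e : Fintype.card K = 9
  · refine lift_cop (Cfsg.Agent.S2118.result e) hp _ _ (QuotientGroup.mk'_surjective _) hc fun z hz h3 => ?_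
    have h1 := pow_card_eq_one_of_scalar (mk_eq_one_iff.1 hz) (h9 e z.2)
    rw [Fintype.card_fin, pow_succ, show (z : G F) ^ 3 = 1 from congrArg Subtype.val h3, one_mul] at h1
    exact Subtype.ext h1
  · exact CL.Schur.exists_lift_of_perfect_trivial (Cfsg.Agent.S2117.result h4 e) hp _ _
      (QuotientGroup.mk'_surjective _) hc

theorem core {F : Type u} [Field F] [Fintype F] {P : Subgroup (G F)} (h : QS P) (K : Type) [Field K] [Fintype K]
    (h3 : 4 ≤ Fintype.card K) (h4 : Fintype.card K ≠ 4) (e : PQ P ≃* PSL(2, K)) :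
    Real P ∨ (Fintype.card K = 7 ∧ (7 : F) ≠ 0) := by
  have hZ := scalars_subgroupOf_le_center P
  obtain ⟨η, hη⟩ := lift h3 h4 (fun _ => h.le_SL) (e.symm.toMonoidHom.comp (QuotientGroup.mk' _))
  have hη' : ∀ g, ((η g : P) : PQ P) = e.symm (g : ProjectiveSpecialLinearGroup (Fin 2) K) :=
    fun g => DFunLike.congr_fun hη g
  let ρ : SL(2, K) →* G F := P.subtype.comp η
  have hsc : ∀ g, ρ g ∈ scalars (Fin 4) F ↔ g ∈ Subgroup.center SL(2, K) := fun g => by
    rw [← QuotientGroup.eq_one_iff g, ← e.symm.map_eq_one_iff, ← hη', mk_eq_one_iff]; rfl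
  have hsurj : P ≤ ρ.range := by
    refine h.le_of_normal (fun g hg x hx => ?_) ⟨upA 1, rfl⟩ (η _).2 fun e => upA_one_not_mem ((hsc _).1 e)
    obtain ⟨x, rfl⟩ := hx
    obtain ⟨k, hk⟩ := QuotientGroup.mk_surjective (e (⟨g, hg⟩ : P))
    have h1 : (η k)⁻¹ * ⟨g, hg⟩ ∈ (scalars (Fin 4) F).subgroupOf P :=
      QuotientGroup.eq.1 (by rw [hη', hk, e.symm_apply_apply])
    have h2 := Subgroup.mem_center_iff.1 (hZ h1) (η x)
    refine ⟨k * x * k⁻¹, ?_⟩
    have h4 : η k * η x * (η k)⁻¹ = ⟨g, hg⟩ * η x * ⟨g, hg⟩⁻¹ := by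
      calc _ = η k * (η x * ((η k)⁻¹ * ⟨g, hg⟩)) * (⟨g, hg⟩ : P)⁻¹ := by group
        _ = _ := by rw [h2]; group
    rw [map_mul, map_mul, map_inv]
    exact congrArg Subtype.val h4
  have hreal : ∀ g, (∃ k : SL(2, K), k * g * k⁻¹ = g⁻¹) → tr (ρ g)⁻¹ = tr (ρ g) := fun g ⟨k, hk⟩ => by
    rw [← map_inv, ← hk, map_mul, map_mul, map_inv, tr_conj]
  by_cases hsq : ∃ i : K, i ^ 2 = -1
  · obtain ⟨i, hi⟩ := hsq
    refine Or.inl fun l hl => ?_
    obtain ⟨g, rfl⟩ := hsurj hl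
    exact hreal g (sl2_real_of_sq hi g)
  have hK2 : (2 : K) ≠ 0 := fun h2 => hsq ⟨1, by linear_combination h2⟩
  by_cases hc : ringChar F = ringChar K
  · refine Or.inl fun l hl => ?_
    obtain ⟨g, rfl⟩ := hsurj hl
    by_cases ht : (g 0 0 + g 1 1) ^ 2 = 4
    · have hp := CharP.char_is_prime K (ringChar K)
      have := Fact.mk hp
      have : CharP F (ringChar K) := hc ▸ ringChar.charP F
      have ho : Odd (ringChar K) := hp.odd_of_ne_two fun e => hK2 (by
        simpa [e] using ringChar.Nat.cast_ringChar (R := K))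
      obtain ⟨h1, h2⟩ := sl2_pow_char (ringChar K) hK2 g ht
      obtain ⟨c, hc⟩ := (hsc _).2 h1
      have c2 : c ^ 2 = 1 := scal_injective (ι := Fin 4) (by
        rw [map_pow, map_one, show scal (Fin 4) c = ρ (g ^ ringChar K) from hc, ← map_pow, h2, map_one])
      have key : ∀ l : G F, l ^ ringChar K = 1 → tr l⁻¹ = tr l := fun l h5 => by
        rw [tr_of_pow_char _ h5, tr_of_pow_char (ringChar K) (by rw [inv_pow, h5, inv_one])]
      rw [map_pow] at hc
      rcases sq_eq_one_iff.1 (show (c : F) ^ 2 = 1 from by simpa using congrArg Units.val c2) with e1 | e1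
      · exact key _ (hc.symm.trans (Units.ext ((coe_scal c).trans (by rw [e1]; simp))))
      · have h5 : ρ g ^ ringChar K = -1 :=
          hc.symm.trans (Units.ext ((coe_scal c).trans (by rw [e1]; simp)))
        have := key (-ρ g) (by rw [ho.neg_pow, h5, neg_neg])
        rwa [inv_neg, tr_neg, tr_neg, neg_inj] at this
    · exact hreal g (sl2_real hK2 g ht)
  · have h1 := sl2_cross hc ρ fun e => upA_one_not_mem ((hsc _).1 (e ▸ Subgroup.one_mem _))
    rw [Nat.card_eq_fintype_card] at h1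
    have h5 : Fintype.card K % 4 = 3 := by_contra fun h5 => hsq (by
      obtain ⟨i, hi⟩ := FiniteField.isSquare_neg_one_iff.2 h5
      exact ⟨i, by rw [hi, sq]⟩)
    have h7 : Fintype.card K = 7 := by omega
    exact Or.inr ⟨h7, fun h0 => hc (Low5.L2.char_eq Nat.prime_seven h7 (by exact_mod_cast h0))⟩

end L2x

theorem subCross : SubCross.{u} := by
  intro F _ _ P K _ _ hc θ hθ
  by_contra h
  obtain ⟨η, hη⟩ := L2x.lift (K := K) (by omega) (by omega) (by omega) (θ.comp (QuotientGroup.mk' _))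
  have h1 := sl2_cross hc (P.subtype.comp η) fun e => upA_one_not_mem ((QuotientGroup.eq_one_iff _).1 (hθ (by
    rw [map_one]
    refine (DFunLike.congr_fun hη (upA 1)).symm.trans ?_
    rw [MonoidHom.comp_apply, show η (upA 1) = 1 from Subtype.ext e, map_one])))
  rw [Nat.card_eq_fintype_card] at h1
  omega

theorem subL2 : SubL2.{u} := by
  rintro F _ _ P h K _ _ h3 ⟨e⟩
  by_cases h4 : Fintype.card K = 4
  · have : Fact (Nat.Prime 5) := ⟨Nat.prime_five⟩
    obtain ⟨e1⟩ := CL.Cls.nonempty_PSL2_four h4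
    obtain ⟨e2⟩ := CL.Cls.nonempty_PSL2_five (ZMod.card 5)
    exact Or.inl ((L2x.core h (ZMod 5) (by simp) (by simp) (e.trans (e1.trans e2.symm))).resolve_right (by simp))
  · exact L2x.core h K h3 h4 e

end CL.Low4
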