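/-
Project LOW4: irreducible subgroups of `GL₃` generated by transvections with a linear pair.
-/
import Cfsg.Agent.Low4.Defs2
import Cfsg.Agent.Low4.Geo
import Cfsg.Agent.Low4.E3
import Cfsg.Agent.Low4.R3
import Cfsg.Agent.Low.T3AC
import Cfsg.Agent.Low.DataL
import Cfsg.Agent.Low.G3Over

set_option autoImplicit false

namespace CL.Low4

open Matrix Cfsg Cfsg.Geo CL.Asch CL.SLn CL.Low Module
open scoped commutatorElement

universe u

namespace L3

theorem not_sixteen {H : Type u} [Group H] [Finite H] (h : DihSyl H 4) : ¬ 16 ∣ Nat.card H := fun e => by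
  have : Fact (Nat.Prime 2) := ⟨Nat.prime_two⟩
  obtain ⟨S⟩ := (Sylow.nonempty : Nonempty (Sylow 2 H))
  rw [← (S : Subgroup H).index_mul_card, Nat.card_congr (h S).some.toEquiv, DihedralGroup.nat_card] at e
  exact S.not_dvd_index (by omega)

/-- A group generated by involutions whose derived group contains a Sylow 2-subgroup is perfect. -/
theorem eq_of_eight {H : Type u} [Group H] [Finite H] {K : Subgroup H} {S : Set H} (hS : ∀ s ∈ S, s ∈ K ∧ s * s = 1)
    (hK : K ≤ Subgroup.closure S) (h16 : ¬ 16 ∣ Nat.card K) (h8 : 8 ∣ Nat.card (⁅K, K⁆ : Subgroup H)) : ⁅K, K⁆ = K := by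
  have : Fact (Nat.Prime 2) := ⟨Nat.prime_two⟩
  have hle : ⁅K, K⁆ ≤ K := Subgroup.commutator_le_self K
  have sq : ∀ g ∈ Subgroup.closure S, g ∈ K ∧ g * g ∈ ⁅K, K⁆ := fun g hg => by
    induction hg using Subgroup.closure_induction with
    | mem s hs => exact ⟨(hS s hs).1, (hS s hs).2 ▸ one_mem _⟩
    | one => exact ⟨one_mem _, by simp⟩
    | mul a b _ _ ha hb =>
      refine ⟨mul_mem ha.1 hb.1, ?_⟩
      rw [show a * b * (a * b) = a * a * ⁅a⁻¹, b⁆ * (b * b) by simp only [commutatorElement_def]; group]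
      exact mul_mem (mul_mem ha.2 (Subgroup.commutator_mem_commutator (inv_mem ha.1) hb.1)) hb.2
    | inv a _ ha => exact ⟨inv_mem ha.1, by rw [← _root_.mul_inv_rev]; exact inv_mem ha.2⟩
  have : (⁅K, K⁆.subgroupOf K).Normal := ⟨fun n hn g => by
    have := mul_mem (Subgroup.commutator_mem_commutator g.2 n.2) (show (n : H) ∈ _ from hn)
    rw [commutatorElement_def, inv_mul_cancel_right] at this
    exact this⟩
  have h2 : IsPGroup 2 (K ⧸ ⁅K, K⁆.subgroupOf K) := fun x => ⟨1, by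
    obtain ⟨g, rfl⟩ := QuotientGroup.mk_surjective x
    rw [pow_one, pow_two, ← QuotientGroup.mk_mul, QuotientGroup.eq_one_iff]
    exact (sq g (hK g.2)).2⟩
  obtain ⟨n, hn⟩ := IsPGroup.iff_card.1 h2
  rw [Subgroup.card_eq_card_quotient_mul_card_subgroup (⁅K, K⁆.subgroupOf K), hn,
    Nat.card_congr (Subgroup.subgroupOfEquivOfLe hle).toEquiv] at h16
  refine le_antisymm hle (Subgroup.subgroupOf_eq_top.1 (Subgroup.index_eq_one.1 (hn.trans ?_)))
  cases n with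
  | zero => rfl
  | succ n => exact absurd (mul_dvd_mul (dvd_pow_self 2 n.succ_ne_zero) h8) h16

variable {F : Type u} [Field F]

theorem mc_sym (h2 : (2 : F) = 0) {p₀ p₁ p₂ q₀ q₁ q₂ r₀ r₁ r₂ s₀ s₁ s₂ : F} (h : E3.Mc p₀ p₁ p₂ q₀ q₁ q₂)
    (h' : E3.Mc r₀ r₁ r₂ s₀ s₁ s₂) (hp : ¬ (p₀ = 0 ∧ p₁ = 0 ∧ p₂ = 0)) (hs : ¬ (s₀ = 0 ∧ s₁ = 0 ∧ s₂ = 0))
    (e : s₀ * p₀ + s₁ * p₁ + s₂ * p₂ = 0) : q₀ * r₀ + q₁ * r₁ + q₂ * r₂ = 0 := by
  rcases h with h | h | h | h | h | h <;> rcases h' with h' | h' | h' | h' | h' | h' <;> grind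

theorem even_card [Finite F] (h2 : (2 : F) = 0) (F₀ : Subfield F) : 2 ∣ Nat.card F₀ := by
  have : Fact (Nat.Prime 2) := ⟨Nat.prime_two⟩
  have h : addOrderOf (1 : F₀) = 2 := addOrderOf_eq_prime (Subtype.ext (by
    rw [two_nsmul, Subfield.coe_add, Subfield.coe_one, one_add_one_eq_two, h2]; rfl)) one_ne_zero
  exact h ▸ addOrderOf_dvd_natCard _

theorem card_quot_dvd (P : Subgroup (GL (Fin 3) F)) : Nat.card (PQ P) ∣ Nat.card P := Subgroup.card_quotient_dvd_card _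

theorem l32 [Fintype F] (h2 : (2 : F) = 0) {P : Subgroup (GL (Fin 3) F)} (hQ : QS P) (h7 : (7 : F) ≠ 0)
    (e : Nonempty (PQ P ≃* ProjectiveSpecialLinearGroup (Fin 3) (ZMod 2))) : IsSLSub P := by
  have : Fact (Nat.Prime 2) := ⟨Nat.prime_two⟩
  have : CharP F 2 := CharTwo.of_one_ne_zero_of_two_eq_zero one_ne_zero h2
  obtain ⟨-, -, -, b, hb, -, t2, t3, t4, t7, ho⟩ := l27Data F P hQ h7 e
  have hb' : b ∈ (⊥ : Subfield F) := by
    rcases mul_eq_zero.1 (show b * (b - 1) = 0 by linear_combination hb - (b + 1) * h2) with h | h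
    · exact h ▸ zero_mem _
    · exact sub_eq_zero.1 h ▸ one_mem _
  obtain ⟨c, hc, -⟩ := exists_descent hQ.span (F₀ := ⊥) fun l hl => by
    change tr l ∈ _
    rcases ho l hl with h | h | h | h | h
    · rw [h, tr, Units.val_one, trace_one]; exact natCast_mem _ _
    · rw [t2 l hl h]; exact neg_mem (one_mem _)
    · rw [t3 l hl h]; exact zero_mem _
    · rw [t4 l hl h]; exact one_mem _
    · rcases t7 l hl h with h | h <;> rw [h.1]
      exacts [hb', sub_mem (neg_mem (one_mem _)) hb']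
  refine ⟨⊥, c, Subgroup.eq_of_le_of_card_ge (hc.ge.trans (Subgroup.map_mono fun a ha => mem_specialLinear_iff.2
    (Subtype.ext ((det_descGL _ _ _).symm.trans (mem_specialLinear_iff.1 (hQ.le_SL ha)))))) ?_⟩
  rw [G3.card_map_SL, Subfield.card_bot F 2]
  exact Nat.le_of_dvd Nat.card_pos
    (show 168 ∣ _ from (Nat.card_congr e.some.toEquiv).trans card_L32 ▸ card_quot_dvd P)

end L3

theorem subL3 (h3 : Over3.{u}) : SubL3.{u} := fun F _ _ K hI hG hl => by
  refine (t3A F K hI hG hl).elim Or.inl fun ⟨h2, hD⟩ => ?_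
  have neg : ∀ y z : Fin 3 → F, y + z = y - z := fun y z => by
    rw [sub_eq_add_neg, ← eq_neg_of_add_eq_zero_left (show z + z = 0 by rw [← two_smul F, h2, zero_smul])]
  have h16 := L3.not_sixteen hD
  have key : 8 ∣ Nat.card (⁅K, K⁆ : Subgroup _) → ⁅K, K⁆ = K := L3.eq_of_eight (S := {g | g ∈ K ∧ IsTv g})
    (fun s ⟨hs, v, φ, _, _, h0, e⟩ => ⟨hs, rf_sq (h0.trans h2.symm) fun y => (e y).trans (neg _ _)⟩) hG h16
  rcases h3 F K hI with h | ⟨h, -⟩ | ⟨hQ, h | ⟨F₁, σ, f, c, hσ, hf, h9, h⟩ | ⟨h7, e⟩ | ⟨-, e⟩ | ⟨h5, -⟩⟩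
  · obtain ⟨-, e, x, hb, hm⟩ := subGeo F K (hG.trans (Subgroup.closure_mono fun s ⟨hs, v, φ, h0, h1, h4, e⟩ =>
      ⟨v, φ, R3.rf_of_tv h2 ⟨h4, s, hs, e⟩ h0 h1, fun y => (e y).trans (neg _ _)⟩)) hI h
    obtain ⟨v, w, φ, ψ, t1, t2, hv, hψ, h0, h1⟩ := hl
    have ex := GeoJ.expand hb GeoJ.three
    have exD := GeoJ.expandD hb GeoJ.three
    have pair : ∀ (η : Dual F (Fin 3 → F)) (y : Fin 3 → F),
        η y = η (e 0) * x 0 y + η (e 1) * x 1 y + η (e 2) * x 2 y := fun η y => by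
      conv_lhs => rw [exD η]
      simp [Fin.sum_univ_three]
    refine absurd ((pair _ _).trans (L3.mc_sym h2
      (E3.mc hb (hm v φ (R3.rf_of_tv h2 t1 hv fun e => h0 (by simp [e]))))
      (E3.mc hb (hm w ψ (R3.rf_of_tv h2 t2 (fun e => h0 (by simp [e])) hψ))) (fun k => hv ?_) (fun k => hψ ?_)
      ((pair _ _).symm.trans h1))) h0
    · rw [ex v]; simp [Fin.sum_univ_three, k]
    · rw [exD ψ]; simp [Fin.sum_univ_three, k]
  · exact absurd h2 h
  · obtain ⟨F₀, c, e⟩ := id h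
    refine Or.inl (key ?_ ▸ h)
    rw [e, G3.card_map_SL]
    exact (pow_dvd_pow_of_dvd (L3.even_card h2 F₀) 3).mul_right _
  · obtain ⟨q, hq⟩ := CL.Uni.exists_isBar σ hσ hf.invol
    have h4 := L3.even_card h2 F₁
    obtain ⟨p, k, hp, -, -, rfl⟩ := have := Fintype.ofFinite F₁
      CL.Uni.exists_prime_pow (Nat.card_eq_fintype_card.symm.trans hq.card)
    rw [hq.card] at h9 h4
    obtain rfl : 2 = p := (Nat.prime_dvd_prime_iff_eq Nat.prime_two hp).1
      (Nat.prime_two.dvd_of_dvd_pow (Nat.prime_two.dvd_of_dvd_pow h4))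
    refine absurd (Dvd.dvd.trans ?_ (Subgroup.card_dvd_of_le (Subgroup.commutator_le_self K))) h16
    rw [h, G3.card_map_SU hq hf, ← pow_mul]
    refine (pow_dvd_pow 2 (show 4 ≤ k * 3 from ?_)).mul_right _
    by_contra hk
    obtain rfl | rfl : k = 0 ∨ k = 1 := by omega
    all_goals simp at h9
  · exact Or.inl (key ((show 8 ∣ 168 by decide).trans
      ((Nat.card_congr e.some.toEquiv).trans card_L32 ▸ L3.card_quot_dvd _)) ▸ L3.l32 h2 hQ h7 e)
  · have h := L3.card_quot_dvd ⁅K, K⁆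
    rw [Nat.card_congr e.some.toEquiv, nat_card_alternatingGroup, Nat.card_fin] at h
    have h1 := key ((show 8 ∣ _ by decide).trans h)
    have tp : ∀ L : Subgroup (GL (Fin 3) F), L = K → Nonempty (PQ L ≃* alternatingGroup (Fin 6)) →
        Nonempty (PQ K ≃* alternatingGroup (Fin 6)) := by rintro _ rfl h; exact h
    exact Or.inr ⟨h2, hD, h1 ▸ hQ, tp _ h1 e⟩
  · exact absurd (show (1 : F) = 0 by linear_combination h5 - 2 * h2) one_ne_zero

end CL.Low4
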