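/-
Project LOW4: the traces of `4 L₃(4)` in characteristic three.
-/
import Cfsg.Agent.Low4.AL1
import Cfsg.Agent.Low5.TrPow

set_option autoImplicit false
set_option linter.unusedSectionVars false
set_option linter.style.haveILetI false

namespace CL.Low4

open Matrix Cfsg Cfsg.Geo CL.Asch CL.SLn CL.Low Module
open scoped commutatorElement MatrixGroups

universe u

namespace L34

variable {F : Type u} [Field F] {Γ : Subgroup (G F)} {a b : G F} {c : F}

/-- `b` is `c` times a conjugate of `a` -/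
def Rc (c : F) (a b : G F) : Prop := ∃ h : G F, b.val = c • (h * a * h⁻¹).val

theorem Rc.trace (h : Rc c a b) : tr b = c * tr a := by
  obtain ⟨g, e⟩ := h
  rw [tr, e, trace_smul, ← tr_conj' g a, smul_eq_mul]

theorem Rc.dt (h : Rc c a b) : b.val.det = c ^ 4 * a.val.det := by
  obtain ⟨g, e⟩ := h
  rw [e, det_smul, Units.val_mul, Units.val_mul, det_units_conj, Fintype.card_fin]

theorem Rc.ne (h : Rc c a b) : c ≠ 0 := fun e => by
  have := h.dt
  rw [e, zero_pow (by norm_num), zero_mul] at this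
  exact (Matrix.isUnits_det_units b).ne_zero this

theorem Rc.pow (h : Rc c a b) (n : ℕ) : Rc (c ^ n) (a ^ n) (b ^ n) := by
  obtain ⟨g, e⟩ := h
  exact ⟨g, by rw [← conj_pow, Units.val_pow_eq_pow_val, Units.val_pow_eq_pow_val, e, smul_pow]⟩

theorem Rc.inv (h : Rc c a b) : Rc c⁻¹ a⁻¹ b⁻¹ := by
  have h0 := h.ne
  obtain ⟨g, e⟩ := h
  refine ⟨g, Units.inv_eq_of_mul_eq_one_right ?_⟩
  rw [e, smul_mul_smul, mul_inv_cancel₀ h0, one_smul, ← Units.val_mul, ← Units.val_one]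
  congr 1
  group

theorem exists_rc {x y : Γ} (h : IsConj (x : PQ Γ) y) : ∃ c, Rc c (x : G F) y := by
  obtain ⟨g, hg⟩ := isConj_iff.1 h
  obtain ⟨k, rfl⟩ := QuotientGroup.mk_surjective g
  have e : ((k * x * k⁻¹ : Γ) : PQ Γ) = y := hg
  obtain ⟨c, hc⟩ := mem_scalars_iff'.1 (Subgroup.mem_subgroupOf.1 (QuotientGroup.eq.1 e))
  refine ⟨c, k, ?_⟩
  have : (y : G F) = (k * x * k⁻¹ : Γ) * ((k * x * k⁻¹)⁻¹ * y : Γ) := by
    rw [← Subgroup.coe_mul, mul_inv_cancel_left]
  rw [this, Units.val_mul, hc, Matrix.mul_smul, Matrix.mul_one]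
  rfl

theorem exists_rc1 {y : Γ} (h : (y : PQ Γ) = 1) : ∃ c, Rc c 1 (y : G F) :=
  exists_rc (x := 1) (by rw [h]; exact IsConj.refl _)

theorem tr_inv (h1 : T22 Γ) (h2 : Lift Γ) {x : Γ} (hx : (x : PQ Γ) * x = 1) (hn : (x : PQ Γ) ≠ 1) :
    tr (x : G F) = 0 := by
  obtain ⟨t, ht, htt⟩ := h2 _ hx
  obtain ⟨c, hc⟩ := exists_rc (x := t) (y := x) (by rw [ht])
  rw [hc.trace, AL1.tr0 h1 t.2 (congrArg Subtype.val htt) fun e => hn (ht ▸ mk_eq_one_iff.2 e), mul_zero]

theorem scalar_orth {κ : Type*} [Fintype κ] (hκ : Fintype.card κ = 16) (hn : (4 : F) ≠ 0) (v : κ → G F)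
    (hv : ∀ s t, s ≠ t → tr ((v t)⁻¹ * v s) = 0) {M : Matrix (Fin 4) (Fin 4) F}
    (ha : ∀ s, (v s).val * M = M * (v s).val) : ∃ c : F, M = c • 1 := by
  classical
  have li : LinearIndependent F fun s => (v s).val := by
    rw [Fintype.linearIndependent_iff]
    intro c hc t
    have := congrArg (fun x : Matrix (Fin 4) (Fin 4) F => (((v t)⁻¹ : G F).val * x).trace) hc
    simp only [Matrix.mul_sum, Matrix.mul_smul, trace_sum, trace_smul, Matrix.mul_zero, trace_zero,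
      ← Units.val_mul] at this
    rw [Finset.sum_eq_single t (fun s _ hs => smul_eq_zero_of_right _ (hv s t hs))
      (fun h => absurd (Finset.mem_univ t) h), inv_mul_cancel, tr_one, smul_eq_mul] at this
    exact (mul_eq_zero.mp this).resolve_right (by simpa using hn)
  have hs := li.span_eq_top_of_card_eq_finrank' (by rw [hκ, Module.finrank_matrix]; simp)
  refine scalar_of_comm_all fun y => ?_
  have hy : y ∈ Submodule.span F (Set.range fun s => (v s).val) := hs ▸ Submodule.mem_top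
  induction hy using Submodule.span_induction with
  | mem x hx => obtain ⟨s, rfl⟩ := hx; exact ha s
  | zero => simp
  | add x y _ _ hx hy => rw [Matrix.add_mul, Matrix.mul_add, hx, hy]
  | smul c x _ hx => rw [Matrix.smul_mul, Matrix.mul_smul, hx]

theorem central {z : Γ} (h : (z : PQ Γ) = 1) (g : Γ) : g * z = z * g :=
  Subgroup.mem_center_iff.1 (scalars_subgroupOf_le_center Γ ((QuotientGroup.eq_one_iff _).1 h)) g

theorem conj_congr {x y : Γ} (h : (x : PQ Γ) = y) (k : Γ) : x * k * x⁻¹ = y * k * y⁻¹ := by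
  have := central (z := x⁻¹ * y) (by rw [QuotientGroup.mk_mul, QuotientGroup.mk_inv, h, inv_mul_cancel]) k
  calc x * k * x⁻¹ = x * (k * (x⁻¹ * y)) * y⁻¹ := by group
    _ = _ := by rw [this]; group

theorem tr_mul1 (h3 : (3 : F) = 0) {x : Γ} (h : (x : PQ Γ) = 1) (y : G F) : tr ((x : G F) * y) = tr (x : G F) * tr y := by
  obtain ⟨c, hc⟩ := mem_scalars_iff'.1 (mk_eq_one_iff.1 h)
  rw [tr, tr, Units.val_mul, hc, Matrix.smul_mul, Matrix.one_mul, trace_smul, trace_smul, trace_one]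
  simp only [smul_eq_mul, Fintype.card_fin, Nat.cast_ofNat]
  linear_combination (-c * tr y) * h3

theorem tr1 (h3 : (3 : F) = 0) : tr (1 : G F) = 1 := by
  rw [tr, Units.val_one, trace_one]
  simp only [Fintype.card_fin, Nat.cast_ofNat]
  linear_combination h3

/-- The product of the traces of `k` and `k⁻¹` is the sum of a character of `C_A(k)`. -/
theorem pauli (h3 : (3 : F) = 0) (h1 : T22 Γ) (h2 : Lift Γ) {A : Subgroup (PQ Γ)} (hA : ∀ a ∈ A, a * a = 1)
    (hc : Nat.card A = 16) (k : Γ) (hk : ∀ a ∈ A, (k : PQ Γ) * a * (k : PQ Γ)⁻¹ ∈ A)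
    [Fintype (A ⊓ Subgroup.centralizer {(k : PQ Γ)} : Subgroup (PQ Γ))] :
    ∃ ε : (A ⊓ Subgroup.centralizer {(k : PQ Γ)} : Subgroup (PQ Γ)) →* F,
      tr (k : G F) * tr (k : G F)⁻¹ = ∑ a, ε a := by
  classical
  haveI : Finite A := Nat.finite_of_card_ne_zero (by omega)
  haveI := Fintype.ofFinite A
  choose t ht using QuotientGroup.mk_surjective (s := (scalars (Fin 4) F).subgroupOf Γ)
  have h0 : ∀ x : Γ, (x : PQ Γ) ∈ A → (x : PQ Γ) ≠ 1 → tr (x : G F) = 0 := fun x hx hn => tr_inv h1 h2 (hA _ hx) hn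
  have hm : ∀ a b, t (a * b) * k * (t (a * b))⁻¹ = t a * (t b * k * (t b)⁻¹) * (t a)⁻¹ := fun a b => by
    rw [conj_congr (y := t a * t b) (by rw [QuotientGroup.mk_mul, ht, ht, ht])]; group
  have hcm : ∀ a, ((t a * k * (t a)⁻¹ * k⁻¹ : Γ) : PQ Γ) = a * k * a⁻¹ * (k : PQ Γ)⁻¹ := fun a => by
    simp only [QuotientGroup.mk_mul, QuotientGroup.mk_inv, ht]
  have hC : ∀ a : (A ⊓ Subgroup.centralizer {(k : PQ Γ)} : Subgroup (PQ Γ)),
      ((t a * k * (t a)⁻¹ * k⁻¹ : Γ) : PQ Γ) = 1 := fun a => by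
    rw [hcm, Subgroup.mem_centralizer_singleton_iff.1 a.2.2]; group
  obtain ⟨μ, hμ⟩ := scalar_orth (κ := A) (by rw [← Nat.card_eq_fintype_card, hc])
    (fun e => one_ne_zero (by linear_combination e - h3 : (1 : F) = 0)) (fun a => (t a : G F))
    (fun a b hab => h0 ((t b)⁻¹ * t a)
      (by rw [QuotientGroup.mk_mul, QuotientGroup.mk_inv, ht, ht]; exact A.mul_mem (A.inv_mem b.2) a.2)
      (by rw [QuotientGroup.mk_mul, QuotientGroup.mk_inv, ht, ht, Ne, inv_mul_eq_one]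
          exact fun e => hab (Subtype.ext e.symm)))
    (M := ∑ a : A, ((t a * k * (t a)⁻¹ : Γ) : G F).val) fun b => by
      rw [Matrix.mul_sum, Matrix.sum_mul]
      refine Fintype.sum_equiv (Equiv.mulLeft b) _ _ fun a => ?_
      rw [← Units.val_mul, ← Units.val_mul, ← Subgroup.coe_mul, ← Subgroup.coe_mul]
      congr 2
      change _ = t (b * a) * k * (t (b * a))⁻¹ * t b
      rw [hm, inv_mul_cancel_right]
  have e1 : μ = tr (k : G F) := by
    have := congrArg Matrix.trace hμ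
    have e0 : ∀ a ∈ (Finset.univ : Finset A), ((t a * k * (t a)⁻¹ : Γ) : G F).val.trace = tr (k : G F) :=
      fun a _ => tr_conj' (t a : G F) (k : G F)
    rw [trace_sum, Finset.sum_congr rfl e0, Finset.sum_const,
      Finset.card_univ, ← Nat.card_eq_fintype_card, hc, trace_smul, trace_one] at this
    simp only [nsmul_eq_mul, smul_eq_mul, Fintype.card_fin, Nat.cast_ofNat] at this
    linear_combination -this + (5 * tr (k : G F) - μ) * h3
  have e2 : tr (k : G F) * tr (k : G F)⁻¹ = ∑ a : A, tr ((t a * k * (t a)⁻¹ * k⁻¹ : Γ) : G F) := by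
    have := congrArg (fun M => Matrix.trace (M * ((k : G F)⁻¹).val)) hμ
    simp only [Matrix.sum_mul, trace_sum, Matrix.smul_mul, Matrix.one_mul, trace_smul, smul_eq_mul, e1] at this
    exact this.symm
  refine ⟨{ toFun := fun a => tr ((t a * k * (t a)⁻¹ * k⁻¹ : Γ) : G F)
            map_one' := ?_
            map_mul' := fun a b => ?_ }, e2.trans (Fintype.sum_of_injective (Subgroup.inclusion inf_le_left)
              (Subgroup.inclusion_injective _) _ _ (fun a ha => h0 _ ?_ ?_) fun _ => rfl).symm⟩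
  · have e0 := conj_congr (y := 1) (ht 1) k
    change tr ((t 1 * k * (t 1)⁻¹ * k⁻¹ : Γ) : G F) = 1
    rw [e0]
    simpa using tr1 h3
  · rw [← tr_mul1 h3 (hC a), ← Subgroup.coe_mul, Subgroup.coe_mul _ a b, hm]
    congr 2
    have := central (hC b) (t a * k * (t a)⁻¹ * k⁻¹)
    have e := central (hC b) (t a)
    calc t a * (t b * k * (t b)⁻¹) * (t a)⁻¹ * k⁻¹
        = t a * (t b * k * (t b)⁻¹ * k⁻¹) * (k * (t a)⁻¹ * k⁻¹) := by group
      _ = (t b * k * (t b)⁻¹ * k⁻¹) * (t a * k * (t a)⁻¹ * k⁻¹) := by rw [e]; group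
      _ = _ := this.symm
  · rw [hcm, mul_assoc, mul_assoc, ← mul_assoc (k : PQ Γ)]
    exact A.mul_mem a.2 (hk _ (A.inv_mem a.2))
  · rw [hcm]
    intro e
    refine ha ⟨⟨a, a.2, Subgroup.mem_centralizer_singleton_iff.2 ?_⟩, rfl⟩
    rw [mul_inv_eq_one, mul_inv_eq_iff_eq_mul] at e
    exact e

theorem cayley (M : Matrix (Fin 4) (Fin 4) F) (hd : M.det = 1) :
    ∃ a b : F, M ^ 4 - M.trace • M ^ 3 + a • M ^ 2 + b • M + 1 = 0 := by
  have h := M.aeval_self_charpoly
  have h4 : M.charpoly.natDegree = 4 := by simp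
  have c4 : M.charpoly.coeff 4 = 1 := by
    have := M.charpoly_monic.coeff_natDegree
    rwa [h4] at this
  have c3 : M.charpoly.coeff 3 = -M.trace := by
    rw [trace_eq_neg_charpoly_coeff, neg_neg]; rfl
  have c0 : M.charpoly.coeff 0 = 1 := by
    have := det_eq_sign_charpoly_coeff M
    rw [hd, Fintype.card_fin] at this
    linear_combination -this
  rw [Polynomial.aeval_eq_sum_range, h4] at h
  simp only [Finset.sum_range_succ, Finset.sum_range_zero, c4, c3, c0, one_smul, pow_zero, pow_one, zero_add,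
    neg_smul] at h
  exact ⟨M.charpoly.coeff 2, M.charpoly.coeff 1, by rw [← h]; abel⟩

theorem four (h3 : (3 : F) = 0) {l : G F} (hd : l.val.det = 1) {s : F} (hs : l.val ^ 4 = s • 1) (h0 : s ≠ 0)
    (p2 : tr (l ^ 2) = 0) (p3 : tr (l ^ 3) = tr l ^ 3) (p3' : tr (l ^ 3) = s * tr l⁻¹) (hn : tr l * tr l⁻¹ = 1) :
    s = 1 := by
  obtain ⟨a, b, h⟩ := cayley l.val hd
  have h5 : l.val ^ 5 = s • l.val := by rw [pow_succ, hs, Matrix.smul_mul, Matrix.one_mul]
  have h6 : l.val ^ 6 = s • l.val ^ 2 := by rw [pow_succ, h5, Matrix.smul_mul, pow_two]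
  have k0 := congrArg Matrix.trace h
  have k1 := congrArg (fun M => Matrix.trace (M * l.val)) h
  have k2 := congrArg (fun M => Matrix.trace (M * l.val ^ 2)) h
  rw [tr, Units.val_pow_eq_pow_val] at p2 p3 p3'
  simp only [Matrix.add_mul, Matrix.sub_mul, Matrix.smul_mul, Matrix.one_mul, Matrix.zero_mul, ← pow_succ,
    ← pow_succ', ← pow_add, Nat.reduceAdd] at k2
  simp only [Matrix.add_mul, Matrix.sub_mul, Matrix.smul_mul, Matrix.one_mul, Matrix.zero_mul, ← pow_succ,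
    ← pow_two, Nat.reduceAdd] at k1
  simp only [hs, h5, h6, trace_add, trace_sub, trace_smul, trace_one,
    trace_zero, p2, p3, smul_eq_mul, Fintype.card_fin, Nat.cast_ofNat] at k0 k1 k2
  rw [p3] at p3'
  set t := l.val.trace
  set t' := tr l⁻¹
  change t * t' = 1 at hn
  change t ^ 3 = s * t' at p3'
  have e4 : t ^ 4 = s := by linear_combination t * p3' + s * hn
  have eb : b * t = -1 := by linear_combination k0 + e4 - (s + 1) * h3
  have ea : a * s = -t ^ 2 := by linear_combination t * k1 - a * e4 + (s * t ^ 2) * h3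
  refine mul_left_cancel₀ h0 ?_
  linear_combination (-t ^ 2) * k2 + (t ^ 2) * ea - (s + 1) * e4 + t ^ 4 * eb - e4 + (a * s * t ^ 2 - s) * h3

end L34

open L34

theorem subL34 : SubL34.{u} := by
  intro F _ _ Γ h3 _ h1 h2 _ ⟨A, x, hA, hc, _, _, hg⟩ l hl hd
  classical
  haveI : Fact (Nat.Prime 3) := ⟨Nat.prime_three⟩
  haveI : CharP F 3 := (CharP.charP_iff_prime_eq_zero Nat.prime_three).2 h3
  have p3 := Low5.tr_pow_char 3 l
  have t1 := tr1 h3
  have hdi : (l⁻¹).val.det = 1 := by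
    have : (l⁻¹).val.det * l.val.det = 1 := by rw [← det_mul, ← Units.val_mul, inv_mul_cancel, Units.val_one, det_one]
    rwa [hd, mul_one] at this
  have hp : ∀ n : ℕ, ((⟨l, hl⟩ : Γ) : PQ Γ) ^ n = 1 → ∃ c : F, c ≠ 0 ∧ c ^ 4 = 1 ∧ Rc c 1 (l ^ n) := fun n hn => by
    obtain ⟨c, hc⟩ := exists_rc1 (y := (⟨l, hl⟩ : Γ) ^ n) hn
    refine ⟨c, hc.ne, ?_, hc⟩
    have := hc.dt
    change (l ^ n).val.det = _ at this
    rw [Units.val_pow_eq_pow_val, det_pow, hd, one_pow, Units.val_one, det_one, mul_one] at this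
    exact this.symm
  have cube : ∀ c : F, c ≠ 0 → c ^ 4 = 1 → Rc c 1 (l ^ 3) → tr l ^ 3 = tr l⁻¹ := fun c c0 c4 h => by
    have e1 := h.trace
    have e2 := h.inv.trace
    rw [← inv_pow, Low5.tr_pow_char 3, inv_one] at e2
    rw [p3] at e1
    rw [t1, mul_one] at e1 e2
    have e3 : c⁻¹ = c ^ 3 := inv_eq_of_mul_eq_one_right (by linear_combination c4)
    have e4 : (c - tr l⁻¹) ^ 3 = 0 := by rw [sub_pow_char, e2, e3, sub_self]
    rw [e1]
    exact sub_eq_zero.1 (pow_eq_zero_iff (by norm_num) |>.1 e4)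
  rcases hg ((⟨l, hl⟩ : Γ) : PQ Γ) with h | h | ⟨h, h'⟩ | ⟨k, hk, hkA, h⟩
  · by_cases e : ((⟨l, hl⟩ : Γ) : PQ Γ) = 1
    · obtain ⟨c, c0, c4, hc⟩ := hp 3 (by rw [e, one_pow])
      exact cube c c0 c4 hc
    · have e1 : tr l = 0 := tr_inv h1 h2 h e
      have e2 : tr l⁻¹ = 0 := tr_inv h1 h2 (x := (⟨l, hl⟩ : Γ)⁻¹)
        (by rw [QuotientGroup.mk_inv, ← _root_.mul_inv_rev, h, inv_one]) (by rwa [QuotientGroup.mk_inv, inv_ne_one])
      rw [e1, e2]; norm_num
  · obtain ⟨c, c0, c4, hc⟩ := hp 3 h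
    exact cube c c0 c4 hc
  · obtain ⟨c, c0, c4, hc⟩ := hp 7 h
    obtain ⟨d, hd'⟩ : ∃ d, Rc d l⁻¹ (l ^ 3) := exists_rc (x := (⟨l, hl⟩ : Γ)⁻¹) (y := (⟨l, hl⟩ : Γ) ^ 3) h'.symm
    have e1 := hd'.dt
    rw [Units.val_pow_eq_pow_val, det_pow, hd, hdi] at e1
    have e2 := (hd'.pow 7).trace
    have e3 := (hc.pow 3).trace
    have e4 := hc.inv.trace
    rw [← pow_mul, inv_pow, e4, show 3 * 7 = 7 * 3 from rfl, pow_mul, e3, one_pow, inv_one, t1] at e2
    have e5 : d ^ 7 = 1 := by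
      field_simp at e2
      linear_combination c4 - e2
    have e6 : d = 1 := by linear_combination (-d) * e5 - (d ^ 4 + 1) * e1
    rw [← p3, hd'.trace, e6, one_mul]
  · obtain ⟨κ, rfl⟩ := QuotientGroup.mk_surjective k
    haveI := Fintype.ofFinite (A ⊓ Subgroup.centralizer {(κ : PQ Γ)} : Subgroup (PQ Γ))
    obtain ⟨ε, hε⟩ := pauli h3 h1 h2 hA hc κ hkA
    obtain ⟨m, hm⟩ : ∃ m, Rc m l (κ : G F) := exists_rc (x := ⟨l, hl⟩) hk
    have hn : tr l * tr l⁻¹ = ∑ a, ε a := by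
      rw [← hε, hm.trace, hm.inv.trace]
      field_simp [hm.ne]
    rcases h with ⟨h, h', h''⟩ | ⟨h, h', h''⟩
    · have hn1 : tr l * tr l⁻¹ = 1 := by
        rw [hn, Finset.sum_eq_single 1, map_one]
        · exact fun a _ ha => absurd (Subtype.ext (h'' a.1 a.2.1
            (Subgroup.mem_centralizer_singleton_iff.1 a.2.2).symm)) ha
        · exact fun e => absurd (Finset.mem_univ _) e
      obtain ⟨c, c0, c4, hc⟩ := hp 5 h
      obtain ⟨d, hd'⟩ : ∃ d, Rc d l⁻¹ l := exists_rc (x := (⟨l, hl⟩ : Γ)⁻¹) (y := ⟨l, hl⟩) h'.symm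
      have e1 := hd'.dt
      rw [hd, hdi] at e1
      have e2 := (hd'.pow 5).trace
      rw [inv_pow, hc.inv.trace, hc.trace, inv_one, t1] at e2
      have e5 : d = c ^ 2 := by
        field_simp at e2
        linear_combination -e2 + d * e1
      have e6 := hd'.trace
      rw [e5] at e6
      linear_combination (tr l ^ 2 + c ^ 2) * e6 + (c ^ 2 * tr l) * hn1 - c ^ 2 * tr l * hn1 + tr l⁻¹ * c4
        + (c ^ 2 * tr l) * hn1
    · obtain ⟨s, s0, -, g, hs⟩ := hp 4 h
      rw [mul_one, mul_inv_cancel, Units.val_one, Units.val_pow_eq_pow_val] at hs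
      have p3' : tr (l ^ 3) = s * tr l⁻¹ := by
        have : l ^ 3 = l ^ 4 * l⁻¹ := by group
        rw [this, tr, Units.val_mul, Units.val_pow_eq_pow_val, hs, Matrix.smul_mul, Matrix.one_mul, trace_smul,
          smul_eq_mul]
      have p2 : tr (l ^ 2) = 0 := tr_inv h1 h2 (x := (⟨l, hl⟩ : Γ) ^ 2)
        (by rw [QuotientGroup.mk_pow, ← pow_add, h]) (by rwa [QuotientGroup.mk_pow, pow_two])
      rw [sum_hom_units] at hn
      split_ifs at hn with e
      · rw [← Nat.card_eq_fintype_card, h''] at hn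
        rw [← p3, p3', four h3 hd hs s0 p2 p3 p3' (by push_cast at hn; linear_combination hn + h3), one_mul]
      · rw [Nat.cast_zero] at hn
        rw [p3] at p3'
        rcases mul_eq_zero.1 hn with e | e
        · rw [e] at p3' ⊢
          rw [(mul_eq_zero.1 (p3'.symm.trans (by norm_num))).resolve_left s0]; norm_num
        · rw [p3', e, mul_zero]

end CL.Low4
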