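/-
Project LOW4: the maximal subgroups of `SL₄(q)` and `SU₄(q)` in the residual class, from the steps.
-/
import Cfsg.Agent.Low4.Defs3
import Cfsg.Agent.Low.Res3
import Cfsg.Agent.Low5.B0
import Cfsg.Agent.Cls.UniConj
import Cfsg.Agent.Cls.SLnCard

set_option autoImplicit false

namespace CL.Low4

open Matrix Cfsg Cfsg.Geo CL.Asch CL.SLn CL.Low Module
open scoped commutatorElement MatrixGroups

universe u

/-- The classification of the quasisimple irreducible subgroups. -/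
def D4 : Prop := ∀ (F : Type u) [Field F] [Fintype F] (P : Subgroup (G F)), QS P → D4Out P

/-- `SL₂(7)` lies in `2 A₇`. -/
def Over27 : Prop :=
  ∀ (F : Type u) [Field F] [Fintype F] (P : Subgroup (G F)), QS P → (7 : F) ≠ 0 → ∀ (K : Type) [Field K] [Fintype K],
    Fintype.card K = 7 → Nonempty (PQ P ≃* PSL(2, K)) → SelfNorm P ∧
      ∃ L : Subgroup (G F), QS L ∧ P ≤ L ∧ ¬ L ≤ P ∧ Nonempty (PQ L ≃* alternatingGroup (Fin 7))

variable {F : Type u} [Field F] [Fintype F] {H P L Ω : Subgroup (G F)}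

theorem card_a7 : Nat.card (alternatingGroup (Fin 7)) = 2520 := by
  have := two_mul_nat_card_alternatingGroup (α := Fin 7)
  rw [Nat.card_perm, Nat.card_eq_fintype_card (α := Fin 7), Fintype.card_fin, show Nat.factorial 7 = 5040 from rfl] at this
  omega

theorem over27 (h1 : SubS27.{u}) (h2 : SubN27.{u}) (h3 : SubM27.{u}) (h4 : SubI27.{u}) : Over27.{u} := by
  intro F _ _ P h h7 K _ _ hK e
  obtain ⟨two, x, y, b, t⟩ := h1 F P h h7 K hK e
  obtain ⟨M, x', y', m⟩ := h3 F b two t.hb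
  obtain ⟨c, c1, c2⟩ := h4 F P M x y x' y' b two h.irr t m
  obtain ⟨a⟩ := m.iso
  let θ : G F →* G F := (MulAut.conj c).toMonoidHom
  have hs : ∀ d g : G F, (MulAut.conj d).toMonoidHom g ∈ scalars (Fin 4) F ↔ g ∈ scalars (Fin 4) F := fun d g =>
    ⟨fun k => by simpa [mul_assoc] using (inferInstance : (scalars (Fin 4) F).Normal).conj_mem _ k d⁻¹,
      fun k => (inferInstance : (scalars (Fin 4) F).Normal).conj_mem _ k d⟩
  have l1 : P.map θ ≤ M := by
    rw [← t.gen, MonoidHom.map_closure, Subgroup.closure_le]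
    rintro _ ⟨_, rfl | rfl, rfl⟩
    exacts [(c1 ▸ m.mx : c * _ * c⁻¹ ∈ M), (c2 ▸ m.my : c * _ * c⁻¹ ∈ M)]
  have l2 : P ≤ M.map (MulAut.conj c⁻¹).toMonoidHom := fun g hg => ⟨_, l1 ⟨g, hg, rfl⟩, by simp [θ, mul_assoc]⟩
  have s1 : spanAlg (P.map θ) = ⊤ := Low5.B0.span_of_linear θ (conjAlg c).toLinearMap
    (fun z => ⟨conjAlg c⁻¹ z, by simpa using conjAlg_inv_conjAlg c⁻¹ z⟩) (fun g hg => ⟨g, hg, rfl⟩) h.span
  have := alternatingGroup.isSimpleGroup (α := Fin 7) (by simp)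
  have q : QS M := ⟨m.perfect, a.isSimpleGroup, fun hc => CL.Inv.not_isMulCommutative_of_not_prime
    (G := alternatingGroup (Fin 7)) (by rw [card_a7]; norm_num) ⟨⟨fun u v => a.symm.injective (by
      rw [map_mul, map_mul, hc.is_comm.comm])⟩⟩, top_unique (s1 ▸ spanAlg_mono l1)⟩
  obtain ⟨q', ⟨e'⟩⟩ := Low5.B0.transport _ (MulAut.conj c⁻¹).injective (hs c⁻¹) q (top_unique (h.span ▸ spanAlg_mono l2))
  refine ⟨h2 F P h h7 K hK e x y b t, _, q', l2, fun k => ?_, ⟨e'.symm.trans a⟩⟩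
  obtain ⟨e⟩ := e
  have h5 := card_PSL_mul (ι := Fin 2) (F := K)
  rw [card_SL_two, hK, ← Nat.card_congr e.toEquiv, le_antisymm l2 k, Nat.card_congr (e'.symm.trans a).toEquiv,
    card_a7] at h5
  simp at h5

theorem not_real (h : QS P)
    (hQ : ¬ ∃ Q : V F → F, IsNondegenerateQuadraticForm Q ∧ FixesQuadForm (matrixSet P) Q)
    (hS : ¬ ∃ f : V F → V F → F, IsSymplecticForm f ∧ FixesForm (matrixSet P) f) : ¬ Real P := fun hR => by
  obtain ⟨ε, f, hf, hε, hfix⟩ := exists_isSesq_fixed (RingHom.id F) (fun _ => rfl) P h.span hR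
  have key : ¬ ∀ v, f v v = 0 := fun halt => hS ⟨f, hf.isSymplecticForm halt, hfix⟩
  rw [fixesForm_iff] at hfix
  have h2 : (2 : F) ≠ 0 := fun h2 => by
    have e : ε = 1 := by
      rcases hε with e | e
      · exact e
      · rw [e.1]; linear_combination -h2
    subst e
    exact key (hf.alt_of_irr h2 h.irr (fun l hl => (hfix l hl).mem_similarityGroup) (by simp))
  rcases hε with rfl | ⟨rfl, -⟩
  · exact hQ (FixesSym.quad h2 ⟨f, hf, hfix⟩)
  · exact key (hf.alt_of_skew h2)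

omit [Fintype F] in
theorem twice {σ : F →+* F} (h : ∀ l ∈ P, tr l⁻¹ = σ (tr l)) : ∀ l ∈ P, (σ.comp σ) (tr l) = tr l := fun l hl => by
  rw [RingHom.comp_apply, ← h l hl, ← h _ (P.inv_mem hl), inv_inv]

/-- A group between `SL₂(7)` and `2 A₇` is not maximal. -/
theorem not_max (hH : IsMaximalIn Ω H) (hc : IsResidualCore H P) (hN : SelfNorm P) (hL : QS L) (h1 : P ≤ L)
    (h2 : ¬ L ≤ P) (e : PQ L ≃* alternatingGroup (Fin 7)) (hΩ : L ≤ Ω) {p : ℕ} (hp : p.Prime) (h0 : (p : F) = 0)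
    (hd : p ^ 6 ∣ Nat.card Ω) : False := by
  rcases hH.2 ((L ⊔ scalars (Fin 4) F) ⊓ Ω) (le_inf (fun g hg => sup_le_sup_right h1 _ (hN g (hc.normal g hg)))
    hH.1.le) inf_le_right with k | k
  · obtain ⟨x, hx⟩ : ∃ x : P, (x : PQ P) ≠ 1 := by
      have := hc.simple
      obtain ⟨y, hy⟩ := exists_ne (1 : PQ P)
      obtain ⟨x, rfl⟩ := QuotientGroup.mk_surjective y
      exact ⟨x, hy⟩
    exact h2 (hL.le_of_normal (fun g hg => hc.normal g (k ▸ ⟨Subgroup.mem_sup_left hg, hΩ hg⟩)) x.2 (h1 x.2)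
      (mt mk_eq_one_iff.2 hx))
  have h3 : (scalars (Fin 4) F).relIndex Ω ∣ 2520 := by
    have r : ∀ X, (scalars (Fin 4) F).relIndex X = Nat.card (X.map (QuotientGroup.mk' (scalars (Fin 4) F))) :=
      fun X => by rw [← Subgroup.relIndex_ker, QuotientGroup.ker_mk']
    rw [← card_a7, ← Nat.card_congr e.toEquiv]
    change _ ∣ (scalars (Fin 4) F).relIndex L
    rw [← Subgroup.relIndex_sup_right L, r, r]
    exact Subgroup.card_dvd_of_le (Subgroup.map_mono (inf_eq_right.1 k))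
  rw [← ((scalars (Fin 4) F).subgroupOf Ω).index_mul_card] at hd
  have h4 := ((coprime_card_scalars_char Ω hp h0).symm.pow_left 6).dvd_of_dvd_mul_right hd |>.trans h3
  have h5 : p ≤ 3 := by_contra fun h5 => absurd (Nat.le_of_dvd (by norm_num) h4)
    (not_le.2 (lt_of_lt_of_le (by norm_num) (Nat.pow_le_pow_left (show 4 ≤ p by omega) 6)))
  interval_cases p <;> simp_all

theorem s5782_of (hD : D4.{u}) (hA : SubA7.{u}) (hO : Over27.{u})
    (hH : IsMaximalIn (specialLinear (Fin 4) F) H) (hS : InLinearResidualClass H) :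
    ∃ (P : Subgroup (G F)) (p : ℕ), IsResidualCore H P ∧ p.Prime ∧ Fintype.card F = p ∧
    ((Nonempty (PQ P ≃* alternatingGroup (Fin 7)) ∧ (p = 2 ∨ p % 7 = 1 ∨ p % 7 = 2 ∨ p % 7 = 4)) ∨
     ((∃ (K : Type) (_ : Field K) (_ : Fintype K), Fintype.card K = 4 ∧ Nonempty (PQ P ≃* Cfsg.PSU 4 K 2)) ∧
        p % 6 = 1)) := by
  obtain ⟨P, hc, hQ, hS, hU⟩ := hS
  have hpr := CharP.char_is_prime F (ringChar F)
  have := Fact.mk hpr
  have h := QS.of_core hc
  have nr := not_real h hQ hS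
  have nu : ∀ σ : F →+* F, ¬ ∀ l ∈ P, tr l⁻¹ = σ (tr l) := fun σ hσ => by
    by_cases e : ∀ y, σ y = y
    · exact nr fun l hl => (hσ l hl).trans (e _)
    · obtain ⟨y, hy⟩ := not_forall.1 e
      exact hU (unitary_of_tr h.span (core_fix hc (twice hσ)) hy hσ)
  have nU : ¬ FrU P := fun k => nu (frobenius F (ringChar F)) fun l hl => (k l hl).symm
  have fl : FrL P → Fintype.card F = ringChar F := fun k =>
    card_eq_of_frob _ (core_fix hc (τ := frobenius F (ringChar F)) k)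
  refine ⟨P, ringChar F, hc, hpr, ?_⟩
  rcases hD F P h with h1 | ⟨K, k1, k2⟩ | ⟨σ, k1, -⟩ | h1 | ⟨h7, K, _, _, hK, e⟩ | ⟨h2, h3, o1, o2, h1⟩ | ⟨-, k, -⟩
  · exact (nr h1).elim
  · exact absurd ((k2 (core_top hc k1)).trans hc.le) hH.1.not_ge
  · exact (nu σ fun l hl => (k1 l hl).2).elim
  · obtain ⟨d1, d2, d3⟩ := hA F P h h1
    have m := mod_ne_zero (ringChar F) Nat.prime_seven fun e => nr (d3 e)
    have hr : ringChar F % 7 = 1 ∨ ringChar F % 7 = 2 ∨ ringChar F % 7 = 4 := by_contra fun hn => nU (d2 (by omega))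
    exact ⟨fl (d1 hr), .inl ⟨h1, .inr hr⟩⟩
  · obtain ⟨hN, L, hL, l1, l2, ⟨a⟩⟩ := hO F P h h7 K hK e
    refine (not_max hH hc hN hL l1 l2 a hL.le_SL hpr (CharP.cast_eq_zero F _) ?_).elim
    obtain ⟨n, -, hn⟩ := FiniteField.card F (ringChar F)
    rw [specialLinear, ← Nat.card_congr (slEquivKerDet (ι := Fin 4) (R := F)).toEquiv, card_SL_four]
    exact (pow_dvd_pow_of_dvd (hn ▸ dvd_pow_self _ n.ne_zero) 6).mul_right _
  · have m2 := mod_ne_zero _ Nat.prime_two (ne_of_cast (ringChar F) (F := F) (by exact_mod_cast h2))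
    have m3 := mod_ne_zero _ Nat.prime_three (ne_of_cast (ringChar F) (F := F) (by exact_mod_cast h3))
    have hr : ringChar F % 3 = 1 := by_contra fun hn => nU (o2 (by omega))
    exact ⟨fl (o1 hr), .inr ⟨h1, by omega⟩⟩
  · exact (nU k).elim

theorem s5785_of (hD : D4.{u}) (hA : SubA7.{u}) (hO : Over27.{u}) (q : ℕ) (hF : Fintype.card F = q ^ 2)
    (hH : IsMaximalIn (GU 4 F q ⊓ specialLinear (Fin 4) F) H) (hS : InUnitaryResidualClass H) :
    ∃ P : Subgroup (G F), IsResidualCore H P ∧ q.Prime ∧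
    ((Nonempty (PQ P ≃* alternatingGroup (Fin 7)) ∧ (q % 7 = 3 ∨ q % 7 = 5 ∨ q % 7 = 6)) ∨
     ((∃ (K : Type) (_ : Field K) (_ : Fintype K), Fintype.card K = 4 ∧ Nonempty (PQ P ≃* PSL(3, K))) ∧ q = 3) ∨
     ((∃ (K : Type) (_ : Field K) (_ : Fintype K), Fintype.card K = 4 ∧ Nonempty (PQ P ≃* Cfsg.PSU 4 K 2)) ∧
        q % 6 = 5)) := by
  obtain ⟨P, hc, hQ, hS⟩ := hS
  have hpr := CharP.char_is_prime F (ringChar F)
  have := Fact.mk hpr
  have h := QS.of_core hc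
  have nr := not_real h hQ hS
  obtain ⟨σ, hσ, hσ1, hσq⟩ := exists_invol_of_card (F := F) (q := q) (by rw [Nat.card_eq_fintype_card, hF])
  have hf := isSesq_hermForm 4 hσ hσq
  have hSU : GU 4 F q ⊓ specialLinear (Fin 4) F = specialIsom (hermForm 4 F q) :=
    Subgroup.ext fun g => and_congr mem_GU_iff mem_specialLinear_iff
  have hI : ∀ l ∈ P, Isom (hermForm 4 F q) l := fun l hl => (hSU ▸ hH.1.le (hc.le hl) :).1
  have hinv : ∀ l ∈ P, tr l⁻¹ = σ (tr l) := fun l hl => hf.trace_inv (hI l hl)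
  have nf : ¬ FrL P := fun k => hσ1 (RingHom.ext fun y => by
    have k' := core_fix hc (τ := frobenius F (ringChar F)) k
    obtain rfl := eq_of_frob (ringChar F) hF fun x => by rw [k', k']
    exact (hσq y).trans (k' y))
  have fin : FrU P → q = ringChar F := fun k =>
    eq_of_frob _ hF (core_fix hc (twice (σ := frobenius F (ringChar F)) fun l hl => (k l hl).symm))
  refine ⟨P, hc, ?_⟩
  rcases hD F P h with h1 | ⟨K, k1, k2⟩ | ⟨τ, k1, k2⟩ | h1 | ⟨h7, K, _, _, hK, e⟩ | ⟨h2, h3, o1, o2, h1⟩ | ⟨h3, k, h1⟩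
  · exact (nr h1).elim
  · exact absurd (inf_le_right.trans ((k2 (core_top hc k1)).trans hc.le)) hH.1.not_ge
  · obtain rfl : τ = σ := RingHom.ext fun y => by
      have := core_fix hc (τ := σ.comp τ) (fun l hl => by rw [RingHom.comp_apply, ← (k1 l hl).2, hinv l hl, hσ]) y
      rw [← hσ (τ y)]
      exact congrArg σ this
    exact absurd (hSU ▸ (k2 hσ hσ1 _ hf hI).trans hc.le) hH.1.not_ge
  · obtain ⟨d1, d2, d3⟩ := hA F P h h1
    have m := mod_ne_zero (ringChar F) Nat.prime_seven fun e => nr (d3 e)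
    have hr : ringChar F % 7 = 3 ∨ ringChar F % 7 = 5 ∨ ringChar F % 7 = 6 := by_contra fun hn => nf (d1 (by omega))
    obtain rfl := fin (d2 hr)
    exact ⟨hpr, .inl ⟨h1, hr⟩⟩
  · exfalso
    obtain ⟨hN, L, hL, l1, l2, ⟨a⟩⟩ := hO F P h h7 K hK e
    obtain ⟨d1, d2, d3⟩ := hA F L hL ⟨a⟩
    have m := mod_ne_zero (ringChar F) Nat.prime_seven fun e => nr fun l hl => d3 e l (l1 hl)
    have hU := d2 (by_contra fun hn => nf fun l hl => d1 (by omega) l (l1 hl))
    obtain rfl := fin fun l hl => hU l (l1 hl)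
    obtain ⟨ε, f, hf', -, hfix⟩ := exists_isSesq_fixed σ hσ L hL.span fun l hl => by rw [hσq]; exact (hU l hl).symm
    rw [fixesForm_iff] at hfix
    obtain ⟨d, d0, hd⟩ := hf.proportional_of_isom hf' h.span hI fun l hl => hfix l (l1 hl)
    refine not_max hH hc hN hL l1 l2 a (hSU ▸ fun l hl => ⟨fun u v => mul_left_cancel₀ d0 ?_,
      mem_specialLinear_iff.1 (hL.le_SL hl)⟩) hpr (CharP.cast_eq_zero F _) ?_
    · rw [← hd, ← hd, hfix l hl]
    · have := CL.Uni.card_SUm (n := 4) (CL.Uni.isBar_bar hF) (by norm_num)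
      exact (Nat.Coprime.pow_left 6 (show (ringChar F).Coprime (ringChar F + 1) by simp)).dvd_of_dvd_mul_left
        (this.symm ▸ Dvd.intro _ rfl)
  · have m2 := mod_ne_zero _ Nat.prime_two (ne_of_cast (ringChar F) (F := F) (by exact_mod_cast h2))
    have m3 := mod_ne_zero _ Nat.prime_three (ne_of_cast (ringChar F) (F := F) (by exact_mod_cast h3))
    have hr : ringChar F % 3 = 2 := by_contra fun hn => nf (o1 (by omega))
    obtain rfl := fin (o2 hr)
    exact ⟨hpr, .inr (.inr ⟨h1, by omega⟩)⟩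
  · obtain rfl := fin k
    exact ⟨hpr, .inr (.inl ⟨h1, eq_of_cast _ Nat.prime_three (F := F) (by exact_mod_cast h3)⟩)⟩

end CL.Low4
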