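/-
Project LOW4, job S27: the rigid triple of a four-dimensional group covering `L₂(7)`.
-/
import Cfsg.Agent.Low4.Defs3
import Cfsg.Agent.Low5.L2
import Cfsg.Agent.Low5.Scott

set_option autoImplicit false

namespace CL.Low4

open Matrix Cfsg Cfsg.Geo CL.Asch CL.SLn CL.Low Module
open scoped commutatorElement MatrixGroups

universe u

namespace S27

variable {F : Type u} [Field F]

/-- The four by four matrices. -/
abbrev M4 (F : Type u) : Type u := Matrix (Fin 4) (Fin 4) F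

/-- Extension of the field followed by a change of basis. -/
structure Good {L : Type u} [Field L] (φ : F →+* L) (Φ : M4 F →+* M4 L) : Prop where
  tr : ∀ A, (Φ A).trace = φ A.trace
  det : ∀ A, (Φ A).det = φ A.det
  rk : ∀ A, (Φ A).rank = A.rank
  smul : ∀ c A, Φ (c • A) = φ c • Φ A
  inj : Function.Injective Φ

theorem diag {L : Type u} [Field L] [IsAlgClosed L] (φ : F →+* L) (X : M4 F) {m : ℕ} (hm : (m : F) ≠ 0)
    (h : X ^ m = 1) : ∃ μ : Fin 4 → L, (∀ i, μ i ^ m = 1) ∧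
      ∀ σ : Equiv.Perm (Fin 4), ∃ Φ, Good φ Φ ∧ Φ X = diagonal (μ ∘ σ) := by
  let T : M4 F →+* End L (Fin 4 → L) := (toLinAlgEquiv' (R := L) (n := Fin 4)).toRingEquiv.toRingHom.comp φ.mapMatrix
  have hT : ∀ A, T A = toLin' (A.map φ) := fun _ => rfl
  obtain ⟨b, μ, hb, hμ⟩ := CL.Char.exists_eigenbasis_of_pow_eq_one (T X) (m := m)
    (by rw [← map_natCast φ]; exact (map_ne_zero φ).2 hm) (by rw [← map_pow, h, map_one])
  let e : Fin 4 ≃ Fin (finrank L (Fin 4 → L)) := finCongr (by simp)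
  refine ⟨μ ∘ e, fun i => hμ _, fun σ => ?_⟩
  let c : Basis (Fin 4) L (Fin 4 → L) := b.reindex (σ.trans e).symm
  let Φ : M4 F →+* M4 L := (LinearMap.toMatrixAlgEquiv c).toRingEquiv.toRingHom.comp T
  have hΦ : ∀ A, Φ A = LinearMap.toMatrix c c (toLin' (A.map φ)) := fun _ => rfl
  refine ⟨Φ, ⟨fun A => ?_, fun A => ?_, fun A => ?_, fun a A => ?_, fun A B hAB => ?_⟩, ?_⟩
  · rw [hΦ, ← LinearMap.trace_eq_matrix_trace, trace_toLin'_eq, AddMonoidHom.map_trace]
  · rw [hΦ, LinearMap.det_toMatrix, LinearMap.det_toLin', RingHom.map_det, RingHom.mapMatrix_apply]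
  · rw [hΦ, rank_eq_finrank_range_toLin _ c c, toLin_toMatrix, ← CL.GLn.rank_map_ringHom φ A]; rfl
  · rw [hΦ, hΦ, ← map_smul, ← map_smul]
    congr 2
    ext i j; simp
  · rw [hΦ, hΦ] at hAB
    exact map_injective φ.injective (toLin'.injective ((LinearMap.toMatrix c c).injective hAB))
  · ext i j
    rw [hΦ, LinearMap.toMatrix_apply, ← hT, show T X (c j) = μ (e (σ j)) • c j by simp [c, hb]]
    by_cases q : i = j <;> simp [q, diagonal_apply, Finsupp.single_apply, eq_comm]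

theorem rank_inv {X : M4 F} (h : X * X = 1) (hd : X.det = 1) (h1 : X ≠ -1) : (X - 1).rank ≤ 2 := by
  classical
  by_cases h2 : (2 : F) = 0
  · have h3 : (X - 1) * (X - 1) = 0 := by
      have : (X - 1) * (X - 1) = X * X - 1 + (2 : F) • (1 - X) := by rw [two_smul]; noncomm_ring
      rw [this, h, h2, zero_smul, sub_self, add_zero]
    have := rank_add_rank_le_card_of_mul_eq_zero h3
    rw [Fintype.card_fin] at this
    omega
  let φ := algebraMap F (AlgebraicClosure F)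
  obtain ⟨μ, hμ, hσ⟩ := diag φ X (m := 2) (by exact_mod_cast h2) (by rw [sq, h])
  obtain ⟨Φ, g, e⟩ := hσ 1
  replace e : Φ X = diagonal μ := e
  have h3 : μ 0 * μ 1 * μ 2 * μ 3 = 1 := by
    rw [← Fin.prod_univ_four, ← det_diagonal, ← e, g.det, hd, map_one]
  have h4 : ¬ (μ 0 = -1 ∧ μ 1 = -1 ∧ μ 2 = -1 ∧ μ 3 = -1) := fun ⟨a, b, c, d⟩ => h1 (g.inj (by
    rw [e, map_neg, map_one, ← diagonal_one, diagonal_neg]
    congr 1; ext i; fin_cases i <;> assumption))
  have h5 : (-1 : AlgebraicClosure F) ≠ 1 := fun q => h2 (φ.injective (by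
    rw [map_ofNat, map_zero]; linear_combination -q))
  rw [← g.rk, map_sub, map_one, e, ← diagonal_one, diagonal_sub, rank_diagonal, Fintype.card_subtype,
    Finset.card_filter, Fin.sum_univ_four]
  simp only [ne_eq, sub_eq_zero]
  rcases sq_eq_one_iff.1 (hμ 0) with a | a <;> rcases sq_eq_one_iff.1 (hμ 1) with b | b <;>
    rcases sq_eq_one_iff.1 (hμ 2) with c | c <;> rcases sq_eq_one_iff.1 (hμ 3) with d | d <;>
    simp_all

theorem perm4 : ∀ i j k : Fin 4, i ≠ j → i ≠ k → j ≠ k → ∃ σ : Equiv.Perm (Fin 4), σ 0 = i ∧ σ 1 = j ∧ σ 2 = k := by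
  decide +kernel

theorem seven (h7 : (7 : F) ≠ 0) {Z H : M4 F} (hZ : Z ^ 7 = 1) (h1 : Z ≠ 1) (hc : Z * H = H * Z ^ 2) (hH : H ^ 3 = 1)
    (dZ : Z.det = 1) (dH : H.det = 1) : (Z.trace - 1) ^ 2 + (Z.trace - 1) + 2 = 0 ∧ chi7 (Z.trace - 1) Z = 0 ∧
      (Z ^ 6).trace = -(Z.trace - 1) ∧ (Z - 1).rank ≤ 3 ∧ (H - 1).rank ≤ 2 := by
  classical
  let φ := algebraMap F (AlgebraicClosure F)
  obtain ⟨μ, hμ, hσ⟩ := diag φ Z (m := 7) (by exact_mod_cast h7) hZ
  have ent : ∀ {Φ : M4 F →+* M4 (AlgebraicClosure F)} {ν}, Φ Z = diagonal ν → ∀ i j, ν i ≠ ν j ^ 2 → Φ H i j = 0 :=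
    fun {Φ ν} e i j q => by
      have := congrFun (congrFun (congrArg Φ hc) i) j
      rw [map_mul, map_mul, map_pow, e, diagonal_pow, diagonal_mul, mul_diagonal, mul_comm (Φ H i j)] at this
      exact by_contra fun r => q (mul_right_cancel₀ r this)
  obtain ⟨Φ, g, e⟩ := hσ 1
  replace e : Φ Z = diagonal μ := e
  have step : ∀ j, ∃ i, μ i = μ j ^ 2 := fun j => by_contra fun q => by
    have := det_eq_zero_of_column_eq_zero (A := Φ H) j fun i => ent e i j fun r => q ⟨i, r⟩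
    rw [g.det, dH, map_one] at this
    exact one_ne_zero this
  obtain ⟨j0, hj0⟩ : ∃ j, μ j ≠ 1 := by_contra fun q => h1 (g.inj (by
    rw [e, map_one, ← diagonal_one]
    congr 1; ext i; exact by_contra fun r => q ⟨i, r⟩))
  obtain ⟨j1, hj1⟩ := step j0
  obtain ⟨j2, hj2⟩ := step j1
  set ζ := μ j0 with hζ
  have z7 : ζ ^ 7 = 1 := hμ j0
  have hp : IsPrimitiveRoot ζ 7 := by
    have := Fact.mk Nat.prime_seven
    exact orderOf_eq_prime z7 hj0 ▸ IsPrimitiveRoot.orderOf ζ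
  have ne : ∀ a b, a < 7 → b < 7 → a ≠ b → ζ ^ a ≠ ζ ^ b := fun a b ha hb q r => q (hp.pow_inj ha hb r)
  rw [hj1, ← pow_mul] at hj2
  obtain ⟨σ, s0, s1, s2⟩ := perm4 j0 j1 j2
    (fun q => ne 1 2 (by omega) (by omega) (by omega) (by rw [pow_one, ← hj1, ← q]))
    (fun q => ne 1 4 (by omega) (by omega) (by omega) (by rw [pow_one, ← hj2, ← q]))
    (fun q => ne 2 4 (by omega) (by omega) (by omega) (by rw [← hj1, ← hj2, ← q]))
  clear e g step
  obtain ⟨Φ, g, e⟩ := hσ σ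
  have h3 : μ (σ 3) = 1 := by
    have := g.det Z
    rw [e, dZ, map_one, det_diagonal, Fin.prod_univ_four] at this
    simp only [Function.comp_apply, s0, s1, s2, hj1, hj2, ← hζ] at this
    linear_combination this - μ (σ 3) * z7
  let n : Fin 4 → ℕ := ![1, 2, 4, 0]
  have e' : Φ Z = diagonal fun i => ζ ^ n i := by
    rw [e]; congr 1; ext i
    fin_cases i <;> simp [n, s0, s1, s2, hj1, hj2, h3, ← hζ]
  have hs : 1 + ζ + ζ ^ 2 + ζ ^ 3 + ζ ^ 4 + ζ ^ 5 + ζ ^ 6 = 0 :=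
    (mul_eq_zero.1 (by linear_combination z7 : (ζ - 1) * _ = 0)).resolve_left (sub_ne_zero.2 hj0)
  have hb : φ (Z.trace - 1) = ζ + ζ ^ 2 + ζ ^ 4 := by
    rw [map_sub, map_one, ← g.tr, e', trace_diagonal, Fin.sum_univ_four]; simp [n]
  have hH0 : ∀ i j, n i ≠ n j * 2 % 7 → Φ H i j = 0 := fun i j q => ent e' i j (by
    rw [← pow_mul, pow_eq_pow_mod (n j * 2) z7]
    exact ne _ _ ((by decide : ∀ i, n i < 7) i) (Nat.mod_lt _ (by omega)) q)
  obtain ⟨a, b, c, d, hm⟩ : ∃ a b c d, Φ H = !![0, 0, a, 0; b, 0, 0, 0; 0, c, 0, 0; 0, 0, 0, d] :=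
    ⟨Φ H 0 2, Φ H 1 0, Φ H 2 1, Φ H 3 3, by
      ext i j; fin_cases i <;> fin_cases j <;> first | rfl | exact hH0 _ _ (by decide)⟩
  have h4 : a * b * c = 1 := by
    have := congrFun (congrFun (congrArg Φ hH) 0) 0
    rw [map_pow, map_one, hm] at this
    simp [pow_succ, mul_apply, Fin.sum_univ_four] at this
    linear_combination this
  have h5 : d = 1 := by
    have := g.det H
    rw [dH, map_one, hm] at this
    simp [det_succ_row_zero, Fin.sum_univ_succ, Fin.succAbove] at this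
    linear_combination this - d * h4
  refine ⟨φ.injective ?_, g.inj ?_, φ.injective ?_, ?_, ?_⟩
  · rw [map_add, map_add, map_pow, hb, map_ofNat, map_zero]
    linear_combination 2 * hs + ζ * z7
  · simp only [chi7, map_mul, map_sub Φ, map_pow, map_one, g.smul, map_add φ, hb, e', map_zero]
    simp only [diagonal_pow, ← diagonal_one, ← diagonal_smul, diagonal_sub, diagonal_mul_diagonal, ← diagonal_zero]
    have k : ∀ X, X ^ 3 - (ζ + ζ ^ 2 + ζ ^ 4) * X ^ 2 - (1 + (ζ + ζ ^ 2 + ζ ^ 4)) * X - 1 =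
        (X - ζ) * (X - ζ ^ 2) * (X - ζ ^ 4) := fun X => by linear_combination (-X) * hs + z7
    congr 1; ext i
    simp only [Pi.pow_apply, Pi.smul_apply, smul_eq_mul, k]
    fin_cases i <;> simp [n]
  · rw [map_neg, hb, ← g.tr, map_pow, e', diagonal_pow, trace_diagonal, Fin.sum_univ_four]
    simp [n]
    linear_combination hs + (ζ ^ 5 + ζ ^ 3 + ζ ^ 10 + ζ ^ 17) * z7
  · rw [← g.rk, map_sub, map_one, e', show (diagonal fun i => ζ ^ n i) - 1 =
      !![ζ - 1, 0, 0; 0, ζ ^ 2 - 1, 0; 0, 0, ζ ^ 4 - 1; 0, 0, 0] *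
        !![(1 : AlgebraicClosure F), 0, 0, 0; 0, 1, 0, 0; 0, 0, 1, 0] by
        ext i j; fin_cases i <;> fin_cases j <;> simp [n, mul_apply, Fin.sum_univ_three]]
    exact (rank_mul_le_left _ _).trans (rank_le_width _)
  · rw [← g.rk, map_sub, map_one, hm, h5, show !![0, 0, a, 0; b, 0, 0, 0; 0, c, 0, 0; 0, 0, 0, 1] - 1 =
      !![1, 0; 0, 1; -(b * c), -c; 0, 0] * !![-1, 0, a, 0; b, -1, 0, 0] by
        ext i j; fin_cases i <;> fin_cases j <;> simp [mul_apply, Fin.sum_univ_two]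
        all_goals first | ring1 | linear_combination h4 | linear_combination -h4]
    exact (rank_mul_le_left _ _).trans (rank_le_width _)

/-- The group `SL₂(7)`. -/
abbrev S7 : Type := SL(2, ZMod 7)

def x0 : S7 := ⟨!![0, 6; 1, 0], by decide +kernel⟩
def y0 : S7 := ⟨!![0, 1; 6, 6], by decide +kernel⟩
def h0 : S7 := ⟨!![2, 0; 0, 4], by decide +kernel⟩
def w0 : S7 := ⟨!![6, 1; 3, 3], by decide +kernel⟩

theorem gen0 : Subgroup.closure {x0, y0} = ⊤ := eq_top_of_transvection_mem _ fun i j hij c => by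
  have hx : x0 ∈ Subgroup.closure {x0, y0} := Subgroup.subset_closure (by simp)
  have hy : y0 ∈ Subgroup.closure {x0, y0} := Subgroup.subset_closure (by simp)
  obtain ⟨n, e | e⟩ := (by decide +kernel : ∀ (i j : Fin 2) (hij : i ≠ j) (c : ZMod 7), ∃ n : Fin 7,
    SpecialLinearGroup.transvection hij c = (x0 * y0) ^ (n : ℕ) ∨
      SpecialLinearGroup.transvection hij c = x0 * (x0 * y0) ^ (n : ℕ) * x0 ^ 3) i j hij c <;> rw [e]
  exacts [pow_mem (mul_mem hx hy) _, mul_mem (mul_mem hx (pow_mem (mul_mem hx hy) _)) (pow_mem hx _)]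

theorem lift {P : Subgroup (G F)} (h : QS P) {K : Type} [Field K] [Fintype K] (hK : Fintype.card K = 7)
    (e : PQ P ≃* PSL(2, K)) : ∃ ρ : S7 →* G F, ρ.range = P ∧
      ∀ g, ρ g ∈ scalars (Fin 4) F ↔ g ∈ Subgroup.center S7 := by
  have hZ := scalars_subgroupOf_le_center P
  let r := ZMod.ringEquivOfPrime K (by norm_num) hK
  let m : S7 →* SL(2, K) := SpecialLinearGroup.map r.toRingHom
  have ms : Function.Surjective m := fun A => ⟨SpecialLinearGroup.map r.symm.toRingHom A, by ext; simp [m]⟩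
  have mi : Function.Injective m := fun A B q => by
    ext i j; exact r.injective (congrFun (congrFun (congrArg Subtype.val q) i) j)
  obtain ⟨a, ha0, ha⟩ := CL.SLn.exists_sq_ne_one_of_four_le (F := ZMod 7) (by simp)
  obtain ⟨η, hη⟩ := CL.Schur.exists_lift_of_perfect_trivial
    (Cfsg.Agent.S2117.result (F := ZMod 7) (by simp) (by simp)) (isPerfect_SL (Or.inr ⟨a, ha0, ha⟩))
    (e.symm.toMonoidHom.comp ((QuotientGroup.mk' _).comp m)) _ (QuotientGroup.mk'_surjective _)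
    ((QuotientGroup.ker_mk' _).le.trans hZ)
  have hη' : ∀ g, ((η g : P) : PQ P) = e.symm (m g : PSL(2, K)) := fun g => DFunLike.congr_fun hη g
  let ρ : S7 →* G F := P.subtype.comp η
  have hsc : ∀ g, ρ g ∈ scalars (Fin 4) F ↔ g ∈ Subgroup.center S7 := fun g => by
    refine Iff.trans ?_ (show m g ∈ Subgroup.center _ ↔ _ from ⟨fun q => Subgroup.mem_center_iff.2 fun k => mi (by
      rw [map_mul, map_mul]; exact Subgroup.mem_center_iff.1 q _), fun q => Subgroup.mem_center_iff.2 fun k => by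
        obtain ⟨k, rfl⟩ := ms k
        rw [← map_mul, ← map_mul, Subgroup.mem_center_iff.1 q]⟩)
    rw [← QuotientGroup.eq_one_iff (m g), ← e.symm.map_eq_one_iff, ← hη', mk_eq_one_iff]; rfl
  refine ⟨ρ, le_antisymm (by rintro _ ⟨g, rfl⟩; exact (η g).2) ?_, hsc⟩
  refine h.le_of_normal (fun g hg x hx => ?_) ⟨x0, rfl⟩ (η _).2 fun q =>
    absurd (Subgroup.mem_center_iff.1 ((hsc _).1 q) y0) (by decide +kernel)
  obtain ⟨x, rfl⟩ := hx
  obtain ⟨k, hk⟩ := QuotientGroup.mk_surjective (e (⟨g, hg⟩ : P))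
  obtain ⟨k, rfl⟩ := ms k
  have h1 : (η k)⁻¹ * ⟨g, hg⟩ ∈ (scalars (Fin 4) F).subgroupOf P :=
    QuotientGroup.eq.1 (by rw [hη', hk, e.symm_apply_apply])
  have h2 := Subgroup.mem_center_iff.1 (hZ h1) (η x)
  refine ⟨k * x * k⁻¹, ?_⟩
  have h4 : η k * η x * (η k)⁻¹ = ⟨g, hg⟩ * η x * ⟨g, hg⟩⁻¹ := by
    calc _ = η k * (η x * ((η k)⁻¹ * ⟨g, hg⟩)) * (⟨g, hg⟩ : P)⁻¹ := by group
      _ = _ := by rw [h2]; group
  rw [map_mul, map_mul, map_inv]
  exact congrArg Subtype.val h4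

end S27

open S27 in
theorem subS27 : SubS27.{u} := by
  rintro F _ _ P h h7 K _ _ hK ⟨e⟩
  obtain ⟨ρ, hP, hsc⟩ := lift h hK e
  let M : S7 →* M4 F := (Units.coeHom _).comp ρ
  have hM : ∀ g, M g = (ρ g).val := fun _ => rfl
  have hd : ∀ g, (M g).det = 1 := fun g => mem_specialLinear.1 (h.le_SL (hP ▸ ⟨g, rfl⟩))
  have ns : ∀ g (c : F), y0 * g ≠ g * y0 → M g ≠ c • 1 := fun g c q r =>
    q (Subgroup.mem_center_iff.1 ((hsc g).1 (mem_scalars_iff'.2 ⟨c, r⟩)) y0)
  have key : ∀ z k : S7, z ^ 7 = 1 → y0 * z ≠ z * y0 → z * k = k * z ^ 2 → k ^ 3 = 1 → _ := fun z k a b c d =>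
    seven h7 (Z := M z) (H := M k) (by rw [← map_pow, a, map_one]) (by simpa using ns z 1 b)
      (by rw [← map_pow, ← map_mul, ← map_mul, c]) (by rw [← map_pow, d, map_one]) (hd _) (hd _)
  obtain ⟨a1, a2, a3, a4, -⟩ := key (x0 * y0) h0 (by decide +kernel) (by decide +kernel) (by decide +kernel)
    (by decide +kernel)
  have a5 := (key w0 y0 (by decide +kernel) (by decide +kernel) (by decide +kernel) (by decide +kernel)).2.2.2.2
  have a6 : M x0 * M x0 ≠ 1 := fun q => by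
    have b1 := rank_inv q (hd _) (by simpa using ns x0 (-1) (by decide +kernel))
    let R : S7 →* End F (V F) := (toLinAlgEquiv' (R := F) (n := Fin 4)).toMonoidHom.comp M
    have b2 : ∀ g, finrank F (LinearMap.range (R g - 1)) = (M g - 1).rank := fun g => by
      rw [Matrix.rank, ← toLin'_apply', map_sub, toLin'_one]; rfl
    have b3 := CL.Low5.Scott.grp R gen0 (fun W hW => irr_iff.1 h.irr W fun g hg => by
      obtain ⟨k, rfl⟩ := hP.ge hg
      exact hW k) fun q => ns x0 1 (by decide +kernel) (by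
        rw [one_smul]; exact matrix_ext_mulVec fun v => (q x0 v).trans (one_mulVec v).symm)
    rw [b2, b2, b2, finrank_fin_fun] at b3
    omega
  obtain ⟨c, hc⟩ := mem_scalars_iff'.1 ((hsc (x0 * x0)).2 (Subgroup.mem_center_iff.2 fun g => by
    rw [show x0 * x0 = -1 by decide +kernel]; simp))
  rw [← hM, map_mul] at hc
  have a7 : c * c = 1 := by
    have : M x0 * M x0 * (M x0 * M x0) = 1 := by
      rw [← map_mul, ← map_mul, show x0 * x0 * (x0 * x0) = 1 by decide +kernel, map_one]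
    rw [hc] at this
    simpa using congrFun (congrFun this 0) 0
  have a8 : c ≠ 1 := fun q => a6 (by rw [hc, q, one_smul])
  have a9 : c = -1 := (mul_self_eq_one_iff.1 a7).resolve_left a8
  refine ⟨fun q => a8 (by rw [a9]; linear_combination -q), ρ x0, ρ y0, (M (x0 * y0)).trace - 1, a1,
    Units.ext (hc.trans (by simp [a9])), by rw [← map_pow, show y0 ^ 3 = 1 by decide +kernel, map_one],
    by rw [← map_mul, ← map_pow, show (x0 * y0) ^ 7 = 1 by decide +kernel, map_one], by rw [← map_mul]; exact a2,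
    by rw [← map_mul, add_sub_cancel]; rfl, ?_, ?_, a5⟩
  · rw [← a3, ← map_pow, ← map_mul, ← map_inv, show (x0 * y0)⁻¹ = (x0 * y0) ^ 6 from
      inv_eq_of_mul_eq_one_right (by decide +kernel)]
    rfl
  · rw [← Set.image_pair, ← MonoidHom.map_closure, gen0, ← MonoidHom.range_eq_map, hP]

end CL.Low4
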